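import Cfsg.Agent.QT0.QDefs

set_option autoImplicit false
set_option linter.unusedSectionVars false

namespace Cfsg.Agent.QRC

open Cfsg Subgroup Cfsg.Agent.H70 Cfsg.Agent.H92 Cfsg.Agent.H72
open scoped commutatorElement

variable {G : Type*} [Group G] [Finite G] {E S N Z R : Subgroup G}

theorem qbeta_aux (hE : pResidualOf 2 (⊤ : Subgroup G) = ⊤) (P : Sylow 2 G) {z : G}
    (hz : z ∈ center G) (hP : z ∈ (P : Subgroup G)) : z ∈ ⁅(P : Subgroup G), (P : Subgroup G)⁆ := by
  have hA : IsPGroup 2 (Abelianization P) := P.2.to_quotient _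
  have h1 := MonoidHom.transfer_eq_pow (H := P) Abelianization.of z fun k g₀ _ => by
    rw [mul_assoc, ← mem_center_iff.mp (pow_mem hz k) g₀, inv_mul_cancel_left]
  have h2 : pResidualOf 2 (⊤ : Subgroup G) ≤ (MonoidHom.transfer (H := P) Abelianization.of).ker :=
    pRes_le_iff.2 fun x _ hc => by
      obtain ⟨k, hk⟩ := hA (MonoidHom.transfer (H := P) Abelianization.of x)
      exact mem_of_pow_mem_coprime (hc.pow_right k) (by rw [pow_orderOf_eq_one]; exact one_mem _)
        (by rw [MonoidHom.mem_ker, map_pow, hk])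
  have h3 : Abelianization.of (⟨z, hP⟩ : (P : Subgroup G)) ^ (P : Subgroup G).index = 1 := by
    rw [← map_pow, ← MonoidHom.mem_ker.1 (h2 (hE.ge (mem_top z))), h1]
    rfl
  have h5 : Abelianization.of (⟨z, hP⟩ : (P : Subgroup G)) = 1 :=
    (hA.powEquiv' P.not_dvd_index).injective (by simpa using h3)
  rw [← map_subtype_commutator]
  exact ⟨⟨z, hP⟩, (QuotientGroup.eq_one_iff _).mp h5, rfl⟩

theorem beta (hE : pResidualOf 2 E = E) (hS : SylIn 2 S E) (hN : E ≤ normalizer (N : Set G))
    (hNR : N ≤ R) (hR : R ≤ S) (hZ : Z ≤ S) (hZE : ⁅Z, E⁆ ≤ N) (h : S ≤ R ⊔ Z) : S ≤ R := by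
  have := normal_subgroupOf_of_le_normalizer hN
  have hs := QuotientGroup.mk'_surjective (N.subgroupOf E)
  have h1 : pResidualOf 2 (⊤ : Subgroup E) = ⊤ := by
    apply map_injective E.subtype_injective
    rw [map_pRes, ← MonoidHom.range_eq_map, range_subtype, hE]
  have h2 : pResidualOf 2 (⊤ : Subgroup (E ⧸ N.subgroupOf E)) = ⊤ := by
    rw [← map_top_of_surjective _ hs, ← map_pRes, h1]
  have hZR : Z ≤ normalizer (R : Set G) := norm_of_commutator_le (by
    rw [commutator_comm]
    exact (commutator_mono le_rfl (hR.trans hS.le)).trans (hZE.trans hNR))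
  have h3 : ⁅S, S⁆ ≤ R := (commutator_mono h le_rfl).trans (comm_sup_le le_normalizer hZR
    (commutator_le_left_of_norm (h.trans (sup_le le_normalizer hZR)))
    ((commutator_mono le_rfl hS.le).trans (hZE.trans hNR)))
  refine h.trans (sup_le le_rfl fun z hz => ?_)
  have h4 := qbeta_aux h2 (hS.toSylow.mapSurjective hs)
    (z := QuotientGroup.mk' _ ⟨z, hS.le (hZ hz)⟩) (mem_center_iff.2 fun g => by
      obtain ⟨g, rfl⟩ := hs g
      rw [eq_comm, ← commutatorElement_eq_one_iff_mul_comm, ← map_commutatorElement,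
        QuotientGroup.mk'_apply, QuotientGroup.eq_one_iff]
      exact hZE (commutator_mem_commutator hz g.2)) ⟨_, hZ hz, rfl⟩
  rw [Sylow.coe_mapSurjective, ← map_commutator] at h4
  obtain ⟨s, h5, h6⟩ := h4
  have h7 : (s : G) ∈ ⁅S, S⁆ := by
    have h8 := mem_map_of_mem E.subtype h5
    rw [map_commutator] at h8
    have h9 : (hS.toSylow : Subgroup E).map E.subtype = S := map_subgroupOf_eq_of_le hS.le
    rwa [h9] at h8
  have h8 : (s : G)⁻¹ * z ∈ N := QuotientGroup.eq (s := N.subgroupOf E).1 h6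
  simpa using mul_mem (h3 h7) (hNR h8)

end Cfsg.Agent.QRC
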