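import Cfsg.Prelude.Def_Quasithin
import Cfsg.Agent.H72.CSS
import Cfsg.Agent.H72.Bm
import Cfsg.Agent.H70.AsymL

/-! The qrc-lemma: definitions. -/

set_option autoImplicit false
set_option linter.unusedSectionVars false

namespace Cfsg.Agent.QRC

open Cfsg Subgroup Cfsg.Agent.H70 Cfsg.Agent.H92 Cfsg.Agent.H72
open scoped commutatorElement

variable {G : Type*} [Group G]

/-- `B` acts nontrivially on `V` with `|V : C_V(B)| ≤ |B : C_B(V)|²`. -/
def Sq (V B : Subgroup G) : Prop :=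
  ¬ B ≤ centralizer (V : Set G) ∧
    (centralizer (B : Set G)).relIndex V ≤ (centralizer (V : Set G)).relIndex B ^ 2

/-- A quadratic `2F`-offender. -/
def Good (V B : Subgroup G) : Prop := Sq V B ∧ ⁅⁅V, B⁆, B⁆ = ⊥

/-- A cubic elementary abelian `2F`-offender. -/
def Cub (V B : Subgroup G) : Prop := Sq V B ∧ ⁅⁅⁅V, B⁆, B⁆, B⁆ = ⊥ ∧ IsElementaryAbelian 2 B

variable {T M H B V W K : Subgroup G}

theorem relIndex_cj (g : G) (X Y : Subgroup G) : (cj g X).relIndex (cj g Y) = X.relIndex Y :=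
  relIndex_map_map_of_injective _ _ (MulAut.conj g).injective

theorem Sq.cj (h : Sq V B) (g : G) : Sq (cj g V) (cj g B) :=
  ⟨fun e => h.1 (by rwa [← cj_centralizer, cj_le_cj_iff] at e), by
    rw [← cj_centralizer, ← cj_centralizer, relIndex_cj, relIndex_cj]; exact h.2⟩

theorem Good.cj (h : Good V B) (g : G) : Good (cj g V) (cj g B) :=
  ⟨h.1.cj g, by rw [← cj_commutator, ← cj_commutator, h.2, cj_bot]⟩

theorem Cub.cj (h : Cub V B) (g : G) : Cub (cj g V) (cj g B) :=
  ⟨h.1.cj g, by rw [← cj_commutator, ← cj_commutator, ← cj_commutator, h.2.1, cj_bot],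
    IsElem_map _ h.2.2⟩

theorem Sq.of_le [Finite G] (h : Sq W B) (h1 : V ≤ W)
    (h2 : B ⊓ centralizer (V : Set G) ≤ centralizer (W : Set G)) : Sq V B := by
  have e : (centralizer (V : Set G)).relIndex B = (centralizer (W : Set G)).relIndex B := by
    rw [← inf_relIndex_left B, ← inf_relIndex_left B (centralizer (W : Set G)),
      le_antisymm (le_inf inf_le_left h2) (inf_le_inf_left _ (cent_anti h1))]
  refine ⟨fun e => h.1 ((le_inf le_rfl e).trans h2), e ▸ le_trans ?_ h.2⟩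
  exact relIndex_le_of_le_right h1 FiniteIndex.index_ne_zero

theorem Good.of_le [Finite G] (h : Good W B) (h1 : V ≤ W)
    (h2 : B ⊓ centralizer (V : Set G) ≤ centralizer (W : Set G)) : Good V B :=
  ⟨h.1.of_le h1 h2, le_bot_iff.1 ((commutator_mono (commutator_mono h1 le_rfl) le_rfl).trans
    h.2.le)⟩

theorem Cub.of_le [Finite G] (h : Cub W B) (h1 : V ≤ W)
    (h2 : B ⊓ centralizer (V : Set G) ≤ centralizer (W : Set G)) : Cub V B :=
  ⟨h.1.of_le h1 h2, le_bot_iff.1 ((commutator_mono (commutator_mono (commutator_mono h1 le_rfl)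
    le_rfl) le_rfl).trans h.2.1.le), h.2.2⟩

theorem Cub.param (h : Cub V B) (hB : B ≤ M) : CubicParamLE M V 2 :=
  ⟨B, hB, ⟨h.1.1, fun b hb => by rw [h.2.2.2 b hb]; exact one_mem _, fun b hb c hc => by
    rw [← IsElem_le_cent h.2.2 hb c hc, mul_inv_cancel_right, mul_inv_cancel]; exact one_mem _⟩,
    h.2.1, by rw [inf_relIndex_left]; exact h.1.2⟩

theorem Good.param (h : Good V B) (hV : IsElementaryAbelian 2 V) (hn : B ≤ normalizer (V : Set G))
    (hB : B ≤ M) : QuadParamLE M V 2 := by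
  have c := comm_eq_bot_iff.1 h.2
  refine ⟨B, hB, ⟨h.1.1, fun b hb v hv => ?_, fun b hb b' hb' => ?_⟩, h.2,
    by rw [inf_relIndex_left]; exact h.1.2⟩
  · have m := commutator_mem_commutator hv hb
    have a1 := c m b hb
    have a2 := hV.2 _ (commutator_le_left_of_norm hn m)
    calc v * b ^ 2 = ⁅v, b⁆ * (b * ⁅v, b⁆) * b * v := by
          rw [commutatorElement_def, pow_two]; group
      _ = ⁅v, b⁆ ^ 2 * b ^ 2 * v := by rw [a1, pow_two, pow_two]; group
      _ = _ := by rw [a2, one_mul]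
  · have : ⁅⁅B, B⁆, V⁆ = ⊥ := commutator_commutator_eq_bot_of_rotate
      (by rw [commutator_comm B V]; exact h.2) h.2
    exact comm_eq_bot_iff.1 this (commutator_mem_commutator hb hb')

/-- The abstract hypothesis of the qrc-lemma with conclusions (1) and (3) denied.
`M` is `M₀`, `B = H ∩ M`, and `R = O₂(M₀)` is `T ⊓ C(V)`. -/
structure QS (T M H B V K : Subgroup G) : Prop where
  syl : SylIn 2 T ⊤
  TM : T ≤ M
  char : IsChar 2 H
  min : MinOver T H B
  elem : IsElementaryAbelian 2 V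
  VT : V ≤ T
  V0 : V ≠ ⊥
  nV : M ≤ normalizer (V : Set G)
  nR : M ≤ normalizer ((T ⊓ centralizer (V : Set G) : Subgroup G) : Set G)
  KB : K ≤ B
  nK : B ≤ normalizer (K : Set G)
  KT : K ⊓ T = T ⊓ centralizer (V : Set G)
  nn : ∀ X, X ≠ ⊥ → X ≤ T ⊓ centralizer (V : Set G) → M ≤ normalizer (X : Set G) →
    ¬ H ≤ normalizer (X : Set G)
  ng : ∀ A ≤ T, ¬ Good V A

namespace QS

variable (h : QS T M H B V K)
include h

theorem TH : T ≤ H := h.min.le'

theorem sylH : SylIn 2 T H := h.syl.mono h.TH le_top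

theorem VR : V ≤ T ⊓ centralizer (V : Set G) := le_inf h.VT (IsElem_le_cent h.elem)

theorem VY : V ≤ oz 2 (T ⊓ centralizer (V : Set G)) :=
  le_oz h.elem h.VR (cent_comm.1 inf_le_right)

theorem nY : M ≤ normalizer (oz 2 (T ⊓ centralizer (V : Set G)) : Set G) := norm_oz h.nR

theorem inf_cent_Y {A : Subgroup G} (hA : A ≤ T) : A ⊓ centralizer (V : Set G) ≤
    centralizer (oz 2 (T ⊓ centralizer (V : Set G)) : Set G) :=
  (inf_le_inf_right _ hA).trans (cent_comm.1 (oz_le_cent _))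

theorem ngY [Finite G] {A : Subgroup G} (hA : A ≤ T) :
    ¬ Good (oz 2 (T ⊓ centralizer (V : Set G))) A := fun e =>
  h.ng A hA (e.of_le h.VY (h.inf_cent_Y hA))

end QS

end Cfsg.Agent.QRC
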