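import Cfsg.Agent.QT0.QF4S
import Cfsg.Agent.H70.Wielandt

/-! The qrc-lemma: a Sylow subgroup of `O²(Γ)` lies in the commutator of an offender's closure. -/

set_option autoImplicit false
set_option linter.unusedSectionVars false

namespace Cfsg.Agent.QRC

open Cfsg Subgroup Cfsg.Agent.H70 Cfsg.Agent.H92 Cfsg.Agent.H72
open scoped commutatorElement

variable {Γ : Type*} [Group Γ] [Finite Γ] {W : Type*} [AddCommGroup W] [Finite W]
  [DistribMulAction Γ W] {T M X K : Subgroup Γ}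

theorem inf_pRes_le {ι : Type*} [Finite ι] {L : ι → Subgroup Γ} {P : Subgroup Γ}
    (hT : SylIn 2 T ⊤) (hn : ⊤ ≤ normalizer ((⨆ i, L i : Subgroup Γ) : Set Γ))
    (hc : ∀ i j, L i ≤ normalizer (L j : Set Γ)) (h : ∀ i, T ⊓ pResidualOf 2 (L i) ≤ P) :
    T ⊓ pResidualOf 2 (⨆ i, L i) ≤ P := by
  classical
  have := Fintype.ofFinite ι
  have n : ∀ j, (⨆ i, L i) ≤ normalizer (L j : Set Γ) := fun j => iSup_le fun i => hc i j
  have key : ∀ s : Finset ι, ∃ D, pResidualOf 2 (s.sup L) ≤ D ∧ D ≤ ⨆ i, L i ∧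
      (⨆ i, L i) ≤ normalizer (D : Set Γ) ∧ T ⊓ D ≤ P := fun s => by
    induction s using Finset.induction_on with
    | empty => exact ⟨⊥, pRes_le _, bot_le, norm_of_normal, inf_le_right.trans bot_le⟩
    | insert i s _ ih =>
      obtain ⟨D, d1, d2, d3, d4⟩ := ih
      have e1 : pResidualOf 2 (L i) ≤ ⨆ i, L i := (pRes_le _).trans (le_iSup L i)
      have e2 := norm_sup (norm_pRes (p := 2) (n i)) d3
      refine ⟨pResidualOf 2 (L i) ⊔ D, ?_, sup_le e1 d2, e2, ?_⟩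
      · rw [Finset.sup_insert]
        exact pRes_sup_le (Finset.sup_le fun j _ => hc j i) ((le_iSup L i).trans e2) le_sup_left
          (d1.trans le_sup_right)
      · rw [wielandt ((Subn.of_norm e1 (norm_pRes (n i))).trans (.of_norm le_top hn))
          ((Subn.of_norm d2 d3).trans (.of_norm le_top hn)) hT]
        exact sup_le (h i) d4
  obtain ⟨D, d1, -, -, d4⟩ := key Finset.univ
  rw [Finset.sup_univ_eq_iSup] at d1
  exact (inf_le_inf_left _ d1).trans d4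

theorem f4 (h : FF W 2 T M) (hX : X ≤ T) (hc : X ≤ centralizer (X : Set Γ)) (h0 : X ≠ ⊥)
    (ho : Nat.card W ≤ ms W X) (hK : X ≤ K) (hn : M ≤ normalizer (K : Set Γ)) :
    T ⊓ pResidualOf 2 (⊤ : Subgroup Γ) ≤ ⁅K, M ⊓ pResidualOf 2 (⊤ : Subgroup Γ)⁆ := by
  obtain ⟨A, a1, a2, -⟩ := exists_inD (h.syl.pgroup.to_le hX) hc h0 ho
  obtain ⟨g, H, L, o⟩ := h.exists_out a2
  obtain ⟨s, hs, e⟩ := o.exists_eq_cj h a2 (a1.trans hX)
  have l := f4_loc h o (e ▸ cj_le_of_mem_norm (hn (h.min.le hs)) (a1.trans hK)) hn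
  have nP := h.min.le.trans (norm_commutator hn (norm_inf le_normalizer
    (le_top.trans (le_norm_pRes (p := 2) ⊤))))
  obtain ⟨r, t, -, t1, t2, t3⟩ := o.exists_family
  have n : ⊤ ≤ normalizer ((ncl H T : Subgroup Γ) : Set Γ) := fun x _ => o.norm_ncl h x
  have e2 := pRes_sup_eq_of_isPGroup h.syl.pgroup (le_top.trans n)
  rw [o.sup_eq h, ← o.ncl_eq, ← t2] at e2
  rw [← o.ncl_eq, ← t2] at n
  nth_rewrite 1 [e2]
  refine inf_pRes_le h.syl n (fun i j => ?_) fun i => ?_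
  · rcases eq_or_ne i j with rfl | ne
    · exact le_normalizer
    · exact norm_of_cent (h.faith.comm (t3 i j ne) (t3 j i ne.symm))
  · rw [← cj_pRes]
    nth_rewrite 1 [← cj_eq_self_of_mem (t1 i)]
    rw [← cj_inf]
    exact cj_le_of_mem_norm (nP (t1 i)) l

end Cfsg.Agent.QRC
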