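import Cfsg.Agent.QT0.QDefs
import Cfsg.Agent.H72.FFO
import Cfsg.Agent.H72.LCA2

set_option autoImplicit false
set_option linter.unusedSectionVars false

namespace Cfsg.Agent.QRC

open Cfsg Subgroup Cfsg.Agent.H70 Cfsg.Agent.H92 Cfsg.Agent.H72
open scoped commutatorElement

section PermPart

open Equiv Equiv.Perm

variable {α : Type*} [DecidableEq α] [Fintype α]

private theorem chain {Q : α → α → Prop} {o i j : α} (sy : ∀ a b, Q a b → Q b a)
    (st : ∀ a b c, a ≠ o → b ≠ o → c ≠ o → a ≠ b → a ≠ c → Q a b → Q a c) (hi : i ≠ o) (hj : j ≠ o)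
    (ij : i ≠ j) (h : Q i j) (k l : α) (hk : k ≠ o) (hl : l ≠ o) (kl : k ≠ l) : Q k l := by
  by_cases e : k = i
  · subst e; exact st _ _ _ hi hj hl ij kl h
  · exact st _ _ _ hk hi hl e kl (sy _ _ (st _ _ _ hi hj hk ij (Ne.symm e) h))

private theorem even_mem {P : Subgroup (Perm α)} {o i j : α} (hi : i ≠ o) (hj : j ≠ o) (ij : i ≠ j)
    (h : ∀ a b c, a ≠ o → b ≠ o → c ≠ o → a ≠ b → a ≠ c → b ≠ c → swap a b * swap a c ∈ P)
    {g : Perm α} (h1 : g o = o) (h2 : sign g = 1) : g ∈ P := by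
  have k := chain (Q := fun a b => swap a b * swap i j ∈ P) (fun a b e => by rwa [swap_comm b a])
    (fun a b c ha hb hc ab ac e => by
      by_cases bc : b = c
      · exact bc ▸ e
      · have := P.mul_mem (h a c b ha hc hb ac ab (Ne.symm bc)) e
        rwa [mul_assoc, ← mul_assoc (swap a b), swap_mul_self, one_mul] at this)
    hi hj ij (by rw [swap_mul_self]; exact P.one_mem)
  have m : ∀ n, ∀ g : Perm α, g.support.card = n → g o = o →
      (g ∈ P ∧ sign g = 1) ∨ (swap i j * g ∈ P ∧ sign g = -1) := fun n => by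
    induction n using Nat.strong_induction_on with
    | _ n ih =>
      intro g e hg
      by_cases c : g = 1
      · rw [c]; exact Or.inl ⟨P.one_mem, sign_one⟩
      obtain ⟨a, ha⟩ : ∃ a, g a ≠ a := by by_contra! e; exact c (Equiv.ext e)
      have a1 : a ≠ o := fun e => ha (by rw [e, hg])
      have a2 : g a ≠ o := fun e => a1 (g.injective (e.trans hg.symm))
      have a3 := k a (g a) a1 a2 ha.symm
      have e' : g = swap a (g a) * (swap a (g a) * g) := by rw [← mul_assoc, swap_mul_self, one_mul]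
      rcases ih _ (e ▸ card_support_swap_mul ha) _ rfl (by
        rw [mul_apply, hg, swap_apply_of_ne_of_ne a1.symm a2.symm]) with ⟨e1, e2⟩ | ⟨e1, e2⟩
      · refine Or.inr ⟨?_, by rw [e', Perm.sign_mul, sign_swap ha.symm, e2, mul_one]⟩
        have := P.mul_mem (P.inv_mem a3) e1
        rwa [_root_.mul_inv_rev, swap_inv, swap_inv, mul_assoc, ← e'] at this
      · refine Or.inl ⟨?_, by rw [e', Perm.sign_mul, sign_swap ha.symm, e2]; simp⟩
        have := P.mul_mem a3 e1
        rwa [mul_assoc, ← mul_assoc (swap i j), swap_mul_self, one_mul, ← e'] at this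
  rcases m _ g rfl h1 with e | e
  · exact e.1
  · rw [h2] at e
    exact absurd e.2 (by decide)

end PermPart

variable {Γ : Type*} [Group Γ] [Finite Γ] {W : Type*} [AddCommGroup W] [Finite W]
  [DistribMulAction Γ W] {T M A H K L : Subgroup Γ}

open Equiv Equiv.Perm in
private theorem sym_case {n : ℕ} {τ : Perm (Fin (n + 1)) →* Γ} (hM : ∀ g, τ g ∈ M ↔ g 0 = 0)
    {i j : Fin (n + 1)} (ij : i ≠ j) (h1 : τ (swap i j) ∈ M) (h2 : τ (swap i j) ∈ K)
    (hn : M ≤ normalizer (K : Set Γ)) :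
    M ⊓ pResidualOf 2 τ.range ≤ ⁅K, M ⊓ pResidualOf 2 (⊤ : Subgroup Γ)⁆ := by
  have hi : i ≠ 0 := fun e => by
    have := (hM _).1 h1
    rw [e, swap_apply_left] at this
    exact ij (e.trans this.symm)
  have hj : j ≠ 0 := fun e => by
    have := (hM _).1 h1
    rw [e, swap_apply_right] at this
    exact hi this
  have k := chain (Q := fun a b => τ (swap a b) ∈ K) (fun a b e => by rwa [swap_comm b a])
    (fun a b c ha hb hc ab ac e => by
      have := conj_mem_of_mem_norm (hn ((hM (swap b c)).2 (swap_apply_of_ne_of_ne hb.symm hc.symm))) e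
      rwa [← map_inv, ← map_mul, ← map_mul, ← swap_apply_apply, swap_apply_left,
        swap_apply_of_ne_of_ne ab ac] at this) hi hj ij h2
  have r : pResidualOf 2 τ.range ≤ (alternatingGroup _).map τ := pRes_le_of_pow (by
    rintro _ ⟨g, rfl⟩
    exact ⟨1, g ^ 2 ^ 1, by rw [SetLike.mem_coe, mem_alternatingGroup, map_pow]; exact Int.units_sq _,
      map_pow _ _ _⟩)
  intro x hx
  obtain ⟨g, hg, rfl⟩ := r hx.2
  refine even_mem (P := (⁅K, M ⊓ pResidualOf 2 (⊤ : Subgroup Γ)⁆).comap τ) hi hj ij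
    (fun a b c ha hb hc ab ac bc => ?_) ((hM g).1 hx.1) (mem_alternatingGroup.1 hg)
  have o3 := (isThreeCycle_swap_mul_swap_same ab ac bc).orderOf
  have c3 : (swap a b * swap a c) ^ 3 = 1 := o3 ▸ pow_orderOf_eq_one _
  have e : swap a b * swap a c = ⁅swap a b, swap a b * swap a c⁆ := by
    have i : (swap a b * swap a c)⁻¹ = swap a c * swap a b := by
      rw [_root_.mul_inv_rev, swap_inv, swap_inv]
    rw [commutatorElement_def, ← mul_assoc, swap_mul_self, one_mul, swap_inv, eq_mul_inv_iff_mul_eq,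
      ← i, eq_inv_iff_mul_eq_one, ← c3, pow_succ, pow_two]
  rw [mem_comap, e, map_commutatorElement]
  refine commutator_mem_commutator (k a b ha hb ab) ⟨(hM _).2 (by
    rw [mul_apply, swap_apply_of_ne_of_ne ha.symm hc.symm, swap_apply_of_ne_of_ne ha.symm hb.symm]),
    mem_pRes (mem_top _) (Nat.Coprime.coprime_dvd_left (orderOf_map_dvd τ _) (by rw [o3]; decide))⟩

theorem f4_loc (h : FF W 2 T M) (o : FFOut W 2 T M A H L) (hK : A ≤ K)
    (hn : M ≤ normalizer (K : Set Γ)) :
    T ⊓ pResidualOf 2 L ≤ ⁅K, M ⊓ pResidualOf 2 (⊤ : Subgroup Γ)⁆ := by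
  rcases o.cases with ⟨rfl, c⟩ | ⟨-, -, n, -, τ, χ, -, rfl, a, i, j, ij, rfl⟩
  · obtain ⟨F, _, _, σ, ψ, n, rfl⟩ := o.nat
    have := n.charP h.hV
    have c3 : 3 < Fintype.card F := by
      obtain ⟨j, hj⟩ := IsPGroup.iff_card.1 (h.syl.pgroup.to_le o.AT)
      rw [← Nat.card_eq_fintype_card, ← n.card_A]
      rw [hj] at c ⊢
      rcases j with _ | _ | j
      · omega
      · omega
      · have := Nat.one_le_two_pow (n := j); rw [pow_succ, pow_succ]; omega
    have e1 : T ⊓ σ.range = A := (n.syl h.hV).max _ inf_le_right (h.syl.pgroup.to_le inf_le_left)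
      (le_inf o.AT n.le)
    have e2 : σ.range ≤ pResidualOf 2 (⊤ : Subgroup Γ) := by
      rw [MonoidHom.range_eq_map, ← der_eq_top c3, ← pRes_sl2 (p := 2), map_pRes]
      exact pRes_mono le_top
    obtain ⟨μ, h0, h1⟩ := exists_sq_ne_one c3
    refine ((inf_le_inf_left _ (pRes_le _)).trans e1.le).trans fun x hx => ?_
    obtain ⟨c, rfl⟩ := (n.mem x).1 hx
    have : H69.up c = ⁅H69.dg μ h0, H69.up (c / (μ ^ 2 - 1))⁆ := by
      rw [commutatorElement_def, H69.dg_conj_up, ← H69.up_neg, ← H69.up_add]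
      congr 1
      field_simp [sub_ne_zero.2 h1]
      ring
    rw [this, map_commutatorElement, commutator_comm]
    exact commutator_mem_commutator ⟨o.bor ⟨⟨_, rfl⟩, n.mem_norm (H69.dg10 μ h0)⟩, e2 ⟨_, rfl⟩⟩
      (hK (n.up_mem _))
  · exact (inf_le_inf_right _ h.min.le).trans (sym_case a ij (h.min.le (o.AT (mem_zpowers _)))
      (hK (mem_zpowers _)) hn)

end Cfsg.Agent.QRC
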