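import Cfsg.Agent.QT0.QDefs
import Cfsg.Agent.H79.Duality

set_option autoImplicit false
set_option linter.unusedSectionVars false

namespace Cfsg.Agent.QRC

open Cfsg Subgroup Cfsg.Agent.H70 Cfsg.Agent.H92 Cfsg.Agent.H72
open scoped commutatorElement

variable {G : Type*} [Group G] [Finite G] {T U V H X B D : Subgroup G}

theorem qfilt_alt (hq : ⁅⁅U, B⁆, B⁆ = ⊥) (h : ¬ Good U B) :
    (centralizer (U : Set G)).relIndex B = 1 ∨
      (centralizer (U : Set G)).relIndex B ^ 2 < (centralizer (B : Set G)).relIndex U := by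
  by_contra! h1
  exact h ⟨⟨fun e => h1.1 (relIndex_eq_one.2 e), h1.2⟩, hq⟩

theorem not_good_sup {W : Subgroup G} (hW : ∀ B' ≤ B, ¬ Good W B') (hU : ∀ B' ≤ B, ¬ Good U B') :
    ∀ B' ≤ B, ¬ Good (W ⊔ U) B' := by
  rintro A hA ⟨⟨h0, h1⟩, h2⟩
  have q : ∀ Y ≤ W ⊔ U, ∀ A' ≤ A, ⁅⁅Y, A'⁆, A'⁆ = ⊥ := fun Y hY A' hA' =>
    le_bot_iff.1 ((commutator_mono (commutator_mono hY hA') hA').trans h2.le)
  have a1 := qfilt_alt (q U le_sup_right A le_rfl) (hU A hA)
  have a2 := qfilt_alt (q W le_sup_left _ (inf_le_right (a := centralizer (U : Set G))))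
    (hW _ (inf_le_right.trans hA))
  have e1 := relIndex_inf_mul_relIndex (centralizer (W : Set G)) (centralizer (U : Set G)) A
  rw [← cent_sup] at e1
  have e2 := relIndex_inf_mul_relIndex (centralizer (A : Set G))
    (centralizer ((centralizer (U : Set G) ⊓ A : Subgroup G) : Set G)) (W ⊔ U)
  rw [inf_eq_left.2 (cent_anti inf_le_right)] at e2
  have l1 : (centralizer (A : Set G)).relIndex U ≤ (centralizer (A : Set G)).relIndex
      (centralizer ((centralizer (U : Set G) ⊓ A : Subgroup G) : Set G) ⊓ (W ⊔ U)) :=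
    relIndex_le_of_le_right (le_inf (cent_comm.1 inf_le_left) le_sup_right)
      (H21.relIndex_ne_zero' _ _)
  have l2 : (centralizer ((centralizer (U : Set G) ⊓ A : Subgroup G) : Set G)).relIndex W ≤
      (centralizer ((centralizer (U : Set G) ⊓ A : Subgroup G) : Set G)).relIndex (W ⊔ U) :=
    relIndex_le_of_le_right le_sup_left (H21.relIndex_ne_zero' _ _)
  have l3 := (Nat.mul_le_mul l1 l2).trans (e2.le.trans h1)
  have h3 : (centralizer ((W ⊔ U : Subgroup G) : Set G)).relIndex A ≠ 1 := fun e =>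
    h0 (relIndex_eq_one.1 e)
  rw [← e1] at l3 h3
  have p1 := Nat.pos_of_ne_zero (H21.relIndex_ne_zero' (centralizer (A : Set G)) U)
  have p2 := Nat.pos_of_ne_zero (H21.relIndex_ne_zero'
    (centralizer ((centralizer (U : Set G) ⊓ A : Subgroup G) : Set G)) W)
  generalize (centralizer (A : Set G)).relIndex U = a at *
  generalize (centralizer ((centralizer (U : Set G) ⊓ A : Subgroup G) : Set G)).relIndex W = c at *
  generalize (centralizer (U : Set G)).relIndex A = b at *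
  generalize (centralizer (W : Set G)).relIndex (centralizer (U : Set G) ⊓ A) = d at *
  rw [mul_pow, mul_comm (d ^ 2)] at l3
  rcases a1 with rfl | a1 <;> rcases a2 with rfl | a2
  · exact h3 rfl
  · exact absurd l3 (not_le.2 (Nat.mul_lt_mul_of_le_of_lt (by rw [one_pow]; exact p1) a2 p1))
  · exact absurd l3 (not_le.2 (Nat.mul_lt_mul_of_lt_of_le a1 (by rw [one_pow]; exact p2) p2))
  · exact absurd l3 (not_le.2 (Nat.mul_lt_mul_of_lt_of_le a1 a2.le p2))

theorem not_good_sSup (S : Set (Subgroup G)) (h : ∀ W ∈ S, ∀ B' ≤ B, ¬ Good W B') :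
    ¬ Good (sSup S) B := by
  suffices ∀ B' ≤ B, ¬ Good (sSup S) B' from this B le_rfl
  induction S, Set.toFinite S using Set.Finite.induction_on with
  | empty =>
    intro A _ h1
    exact h1.1.1 (cent_comm.1 (by rw [sSup_empty]; exact bot_le))
  | insert _ _ ih =>
    rw [sSup_insert]
    exact not_good_sup (h _ (Set.mem_insert _ _)) (ih fun W hW => h W (Set.mem_insert_of_mem _ hW))

theorem not_good_ncl (h : ∀ g ∈ H, ∀ B' ≤ B, ¬ Good (cj g V) B') : ¬ Good (ncl V H) B :=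
  not_good_sSup (Set.range fun g : H => cj (g : G) V) (by
    rintro _ ⟨g, rfl⟩
    exact h g g.2)

theorem exists_hyper (hT : IsPGroup 2 T) (hD : IsPGroup 2 D) (hn : T ≤ normalizer (D : Set G))
    (h0 : D ≠ ⊥) : ∃ D₁ ≤ D, D₁.relIndex D = 2 ∧ T ≤ normalizer (D₁ : Set G) := by
  obtain ⟨Z, ⟨hZ, hN⟩, hmax⟩ := (Set.toFinite
    {Z : Subgroup G | Z < D ∧ D ⊔ T ≤ normalizer (Z : Set G)}).exists_maximal
    ⟨⊥, bot_lt_iff_ne_bot.2 h0, norm_of_normal⟩
  have h1 := normal_subgroupOf_of_le_normalizer hN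
  have h2 := normal_subgroupOf_of_le_normalizer (sup_le le_normalizer hn)
  obtain ⟨x, hx, hx', x2, h3⟩ := H3.exists_mem_central_mod (isPGroup_sup_of_norm' hD hT hn)
    (Z.subgroupOf (D ⊔ T)) (D.subgroupOf (D ⊔ T)) fun h' => hZ.not_ge fun v hv =>
      h' (show (⟨v, mem_sup_left hv⟩ : ↥(D ⊔ T)) ∈ D.subgroupOf (D ⊔ T) from hv)
  have xD : (x : G) ∈ D := hx
  have xZ : (x : G) ∉ Z := hx'
  have x2' : (x : G) ^ 2 ∈ Z := x2
  have xn : zpowers (x : G) ≤ normalizer (Z : Set G) := zpowers_le.2 (hN x.2)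
  have hc : ⁅Z ⊔ zpowers (x : G), D ⊔ T⁆ ≤ Z := (le_relCent.1 (sup_le
    (le_relCent.2 ⟨le_normalizer, commutator_le_left_of_norm hN⟩)
    (zpowers_le.2 ⟨hN x.2, fun c hc => h3 ⟨c, hc⟩⟩))).2
  have e : Z ⊔ zpowers (x : G) = D := by
    by_contra e
    exact xZ (hmax ⟨lt_of_le_of_ne (sup_le hZ.le (zpowers_le.2 xD)) e,
      norm_of_commutator_le (hc.trans le_sup_left)⟩ le_sup_left (mem_sup_right (mem_zpowers _)))
  refine ⟨Z, hZ.le, relIndex_eq_two_iff.2 ⟨x, xD, fun b hb => ?_⟩, le_sup_right.trans hN⟩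
  have h4 : b * x ∈ Z ∨ b ∈ Z := by
    obtain ⟨z, hz, _, ⟨k, rfl⟩, rfl⟩ := (mem_sup_of_norm' xn).1 (e.ge hb)
    obtain ⟨j, rfl | rfl⟩ := Int.even_or_odd' k
    · exact Or.inr (mul_mem hz (by
        have := zpow_mem x2' j
        rwa [← zpow_natCast, ← zpow_mul] at this))
    · refine Or.inl ?_
      have := zpow_mem x2' (j + 1)
      rw [← zpow_natCast, ← zpow_mul] at this
      have e2 : z * (x : G) ^ (2 * j + 1) * x = z * (x : G) ^ (((2 : ℕ) : ℤ) * (j + 1)) := by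
        push_cast; group
      exact e2 ▸ mul_mem hz this
  have h5 : b * x ∈ Z → b ∉ Z := fun a1 a2 => xZ (by simpa using mul_mem (inv_mem a2) a1)
  rcases h4 with h4 | h4
  · exact Or.inl ⟨h4, h5 h4⟩
  · exact Or.inr ⟨h4, fun a => h5 a h4⟩

theorem pair_le (hU : IsElementaryAbelian 2 U) (hn : X ≤ normalizer (U : Set G))
    (hq : ⁅⁅U, X⁆, X⁆ = ⊥) (hD : D ≤ ⁅U, X⁆) (h2 : D.relIndex ⁅U, X⁆ = 2) :
    (relCent (X : Set G) D).relIndex U ≤ (centralizer (U : Set G)).relIndex X := by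
  have hZU : ⁅U, X⁆ ≤ U := commutator_le_left_of_norm hn
  have hA : U ≤ centralizer ((⁅U, X⁆ : Subgroup G) : Set G) :=
    (IsElem_le_cent hU).trans (cent_anti hZU)
  have hB : X ≤ centralizer ((⁅U, X⁆ : Subgroup G) : Set G) := comm_eq_bot_iff'.1 hq
  have hUD : U ≤ normalizer (D : Set G) := norm_of_cent (hA.trans (cent_anti hD))
  have := normal_subgroupOf_of_le_normalizer (hZU.trans hUD)
  have : IsCyclic (↥⁅U, X⁆ ⧸ D.subgroupOf ⁅U, X⁆) := isCyclic_of_prime_card (p := 2) h2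
  obtain ⟨f, hf⟩ := H79.exists_injective_units (↥⁅U, X⁆ ⧸ D.subgroupOf ⁅U, X⁆)
  let χ := f.comp (QuotientGroup.mk' (D.subgroupOf ⁅U, X⁆))
  have hχ : ∀ z : ↥⁅U, X⁆, χ z = 1 ↔ (z : G) ∈ D := fun z => by
    rw [MonoidHom.comp_apply, map_eq_one_iff f hf, QuotientGroup.mk'_apply,
      QuotientGroup.eq_one_iff, mem_subgroupOf]
  have hm : ∀ (a : U) (b : X), ⁅(a : G), (b : G)⁆ ∈ ⁅U, X⁆ := fun a b =>
    commutator_mem_commutator a.2 b.2
  let β : U →* X →* ℂˣ := MonoidHom.mk' (fun a => MonoidHom.mk' (fun b => χ ⟨_, hm a b⟩) (by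
      intro b b'
      rw [← map_mul]
      congr 1
      apply Subtype.ext
      exact H79.commutator_mul_right_of_central ((hB b.2 _ (hm a b')).symm))) (by
    intro a a'
    ext b
    simp only [MonoidHom.mk'_apply, MonoidHom.mul_apply]
    rw [mul_comm, ← map_mul]
    congr 2
    apply Subtype.ext
    exact H79.commutator_mul_left_of_central ((hA a.2 _ (hm a' b)).symm))
  have hβ : ∀ a b, β a b = 1 ↔ ⁅(a : G), (b : G)⁆ ∈ D := fun a b => hχ ⟨_, hm a b⟩
  have h1 : β.ker = (relCent (X : Set G) D).subgroupOf U := by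
    ext a
    rw [MonoidHom.mem_ker, mem_subgroupOf, mem_relCent]
    constructor
    · intro h
      exact ⟨hUD a.2, fun b hb => (hβ a ⟨b, hb⟩).1 (by rw [h]; rfl)⟩
    · intro h
      exact MonoidHom.ext fun b => (hβ a b).2 (h.2 b b.2)
  have h3 : (centralizer (U : Set G)).subgroupOf X ≤ β.flip.ker := fun b hb =>
    MonoidHom.ext fun a => (hβ a b).2 (by
      have e : (a : G) * b = b * a := hb a a.2
      rw [commutatorElement_eq_one_iff_mul_comm.2 e]; exact one_mem _)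
  have h4 := H79.index_ker_le_of_pairing β
  rw [h1] at h4
  exact h4.trans (index_antitone h3)

end Cfsg.Agent.QRC
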