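import Cfsg.Agent.QT0.QSec
import Cfsg.Agent.QT0.QF4
import Cfsg.Agent.H72.Card

/-! The qrc-lemma: offenders on noncentral chief factors. -/

set_option autoImplicit false
set_option linter.unusedSectionVars false

namespace Cfsg.Agent.QRC

open Cfsg Subgroup Cfsg.Agent.H70 Cfsg.Agent.H92 Cfsg.Agent.H72
open scoped commutatorElement

variable {G : Type*} [Group G] [Finite G] {T H B K A W₁ W₂ : Subgroup G}

theorem card_bar {Γ : Type*} [Group Γ] {π : H →* Γ} {Q : Subgroup G} (hA : A ≤ T)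
    (k : T.subgroupOf H ⊓ π.ker = Q.subgroupOf H) (hT : T ≤ H) :
    Nat.card ((A.subgroupOf H).map π) = Q.relIndex A := by
  rw [← relIndex_ker, ← relIndex_subgroupOf (hA.trans hT), ← k, ← inf_relIndex_left,
    ← inf_relIndex_left _ (T.subgroupOf H ⊓ _), ← inf_assoc, inf_eq_left.2 (subgroupOf_mono H hA)]

theorem cent_bar {Γ : Type*} [Group Γ] (π : H →* Γ) (hc : A ≤ centralizer (A : Set G)) :
    (A.subgroupOf H).map π ≤ centralizer ((A.subgroupOf H).map π : Set Γ) :=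
  map_le_cent_map π fun _ hx _ hy => Subtype.ext (hc hx _ hy)

theorem secN (hT : SylIn 2 T H) (hm : MinOver T H B) (hW : IsElementaryAbelian 2 W₁)
    (h21 : W₂ ≤ W₁) (n1 : H ≤ normalizer (W₁ : Set G)) (n2 : H ≤ normalizer (W₂ : Set G))
    (nc : ¬ ⁅W₁, pResidualOf 2 H⁆ ≤ W₂) (hA : A ≤ T) (hc : A ≤ centralizer (A : Set G)) :
    (pCoreOf 2 H).relIndex A ≤ (relCent (A : Set G) W₂).relIndex W₁ := by
  obtain ⟨Γ, _, _, W, _, _, _, π, -, f, -, k, c⟩ := exists_ff hT hm hW h21 n1 n2 nc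
  have := (f.ms_le (f.syl.pgroup.to_le (map_mono (subgroupOf_mono H hA))) (cent_bar π hc)).trans
    (c A (hA.trans hT.le))
  rw [ms, card_bar hA k hT.le] at this
  exact Nat.le_of_mul_le_mul_right this Nat.card_pos

theorem secF (hT : SylIn 2 T H) (hm : MinOver T H B) (hW : IsElementaryAbelian 2 W₁)
    (h21 : W₂ ≤ W₁) (n1 : H ≤ normalizer (W₁ : Set G)) (n2 : H ≤ normalizer (W₂ : Set G))
    (nc : ¬ ⁅W₁, pResidualOf 2 H⁆ ≤ W₂) (hA : A ≤ T) (hc : A ≤ centralizer (A : Set G))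
    (h0 : ¬ A ≤ pCoreOf 2 H)
    (ho : (relCent (A : Set G) W₂).relIndex W₁ ≤ (pCoreOf 2 H).relIndex A)
    (hAK : A ≤ K) (hKB : K ≤ B) (nK : B ≤ normalizer (K : Set G)) :
    T ⊓ pResidualOf 2 H ≤ (T ⊓ K ⊓ pResidualOf 2 H) ⊔ (pCoreOf 2 H ⊓ pResidualOf 2 H) := by
  obtain ⟨Γ, _, _, W, _, _, _, π, hπ, f, k0, k, c⟩ := exists_ff hT hm hW h21 n1 n2 nc
  have BH := hm.lt.le
  have EH := pRes_le (p := 2) H
  have nE := le_norm_pRes (p := 2) H
  have dn : ∀ {X Y : Subgroup G}, X ≤ normalizer (Y : Set G) →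
      X.subgroupOf H ≤ normalizer (Y.subgroupOf H : Set H) := fun h =>
    norm_comap _ ((map_comap_le _ _).trans h)
  have a := f4 f (map_mono (subgroupOf_mono H hA)) (cent_bar π hc) (fun e => h0 (by
    rw [← relIndex_eq_one, ← card_bar hA k hT.le, e, card_bot])) ((c A (hA.trans hT.le)).trans (by
      rw [ms, card_bar hA k hT.le]; exact Nat.mul_le_mul_right _ ho))
    (map_mono (subgroupOf_mono H hAK)) (norm_map π (dn nK))
  have e : pResidualOf 2 (⊤ : Subgroup Γ) = ((pResidualOf 2 H).subgroupOf H).map π := by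
    rw [subgroupOf_pRes, ← pRes_top, map_pRes, map_top_of_surjective π hπ]
  have s := ((hT.mono hm.le BH).inf_normal' (N := K ⊓ pResidualOf 2 H) (inf_le_left.trans hKB)
    (norm_inf nK (BH.trans nE)))
  rw [← inf_assoc] at s
  generalize pResidualOf 2 H = E at *
  have b : (B.subgroupOf H).map π ⊓ (E.subgroupOf H).map π ≤ ((B ⊓ E).subgroupOf H).map π := by
    rintro _ ⟨h1, x, hx, rfl⟩
    exact mem_map_of_mem π ⟨(comap_map_of_ker_le π k0).le h1, hx⟩
  have b2 : ⁅K.subgroupOf H, (B ⊓ E).subgroupOf H⁆ ≤ (K ⊓ E).subgroupOf H :=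
    le_inf (commutator_le_left_of_norm (dn (inf_le_left.trans nK)))
      ((commutator_mono le_rfl (subgroupOf_mono H inf_le_right)).trans
        (commutator_le_right_of_norm (dn ((hKB.trans BH).trans nE))))
  rw [e] at a
  have a2 := a.trans ((commutator_mono le_rfl b).trans ((map_commutator _ _ π).ge.trans
    (map_mono b2)))
  have s2 := (s.comap_of_injective H.subtype H.subtype_injective (by
    rw [range_subtype]; exact inf_le_right.trans EH)).map π
  have s3 := s2.max _ inf_le_right (f.syl.pgroup.to_inf_left) (le_inf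
    (map_mono (comap_mono (inf_le_left.trans inf_le_left))) s2.le)
  intro t ht
  have t1 : (⟨t, hT.le ht.1⟩ : H) ∈ T.subgroupOf H := ht.1
  have t2 : (⟨t, hT.le ht.1⟩ : H) ∈ E.subgroupOf H := ht.2
  obtain ⟨r, hr, e⟩ := s3.le ⟨mem_map_of_mem π t1, a2 ⟨mem_map_of_mem π t1, mem_map_of_mem π t2⟩⟩
  have q : r⁻¹ * ⟨t, hT.le ht.1⟩ ∈ (pCoreOf 2 H).subgroupOf H := k.le (mem_inf.2
    ⟨T.mul_mem (T.inv_mem hr.1.1) ht.1,
      by rw [MonoidHom.mem_ker, map_mul, map_inv, e, inv_mul_cancel]⟩)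
  rw [← mul_inv_cancel_left (r : G) t]
  exact mul_mem (mem_sup_left hr) (mem_sup_right ⟨q, E.mul_mem (E.inv_mem hr.2) ht.2⟩)

end Cfsg.Agent.QRC
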