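import Cfsg.Agent.QT0.QOff
import Cfsg.Agent.QT0.QFilt
import Cfsg.Agent.QT0.QSec2
import Cfsg.Agent.QT0.QBeta
import Cfsg.Agent.H69.VIter
import Cfsg.Agent.H72.LCH

/-! The qrc-lemma: the case `V ≤ O₂(H)`. -/

set_option autoImplicit false
set_option linter.unusedSectionVars false

namespace Cfsg.Agent.QRC

open Cfsg Subgroup Cfsg.Agent.H70 Cfsg.Agent.H92 Cfsg.Agent.H72
open Cfsg.Agent.H21 (maxEAOf)
open scoped commutatorElement

variable {G : Type*} [Group G] [Finite G] {T M H B V K : Subgroup G}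

omit [Finite G] in
theorem relIndex_congr {X Y L : Subgroup G} (h : X ⊓ L = Y ⊓ L) : X.relIndex L = Y.relIndex L := by
  rw [← inf_relIndex_right X, h, inf_relIndex_right]

theorem cent_le_relCent {A U W : Subgroup G} (h : U ≤ normalizer (W : Set G)) :
    centralizer (A : Set G) ⊓ U ≤ relCent (A : Set G) W :=
  le_relCent.2 ⟨inf_le_right.trans h, by rw [comm_eq_bot_iff.2 inf_le_left]; exact bot_le⟩

theorem relCent_relIndex_le {A U W : Subgroup G} (h : U ≤ normalizer (W : Set G)) :
    (relCent (A : Set G) W).relIndex U ≤ (centralizer (A : Set G)).relIndex U := by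
  rw [← inf_relIndex_right (centralizer (A : Set G))]
  exact relIndex_le_of_le_left (cent_le_relCent h) FiniteIndex.index_ne_zero

theorem jt_le_R (hT : IsElementaryAbelian 2 V) (h1 : V ≤ T) (h2 : T ≤ normalizer (V : Set G))
    (h : ∀ A ≤ T, ¬ Good V A) : Jt 2 T ≤ T ⊓ centralizer (V : Set G) :=
  jt_le_iff.2 fun A hA => le_inf hA.1 (by
    by_contra e
    obtain ⟨C, hC, g⟩ := exists_quad hT h1 h2 hA e
    exact h C hC.1 g)

namespace QS

variable (h : QS T M H B V K)
include h

theorem norm_of {X : Subgroup G} (h1 : pResidualOf 2 H ≤ normalizer (X : Set G))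
    (h2 : T ≤ normalizer (X : Set G)) : H ≤ normalizer (X : Set G) :=
  (pRes_sup_sylIn h.sylH).ge.trans (sup_le h1 h2)

theorem not_norm : ¬ pResidualOf 2 H ≤ normalizer (V : Set G) := fun e =>
  h.nn V h.V0 h.VR h.nV (h.norm_of e (h.TM.trans h.nV))

theorem exists_max : ∃ A ∈ maxEAOf 2 T, ¬ A ≤ pCoreOf 2 H := by
  by_contra! e
  have j := jt_le_R h.elem h.VT (h.TM.trans h.nV) h.ng
  refine h.nn _ (jt_ne_bot h.syl.pgroup fun e => h.V0 (le_bot_iff.1 (h.VT.trans e.le))) j
    (jt_eq_of_le j inf_le_left ▸ norm_jt h.nR) ?_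
  exact jt_eq_of_le (jt_le_iff.2 e) (pCoreOf_le_sylIn h.sylH) ▸ norm_jt (le_norm_pCoreOf H)

theorem inn (hV : V ≤ pCoreOf 2 H) : T ⊓ pResidualOf 2 H ≤ centralizer (V : Set G) := by
  have hT := h.sylH
  have QT : pCoreOf 2 H ≤ T := pCoreOf_le_sylIn hT
  have nQ := le_norm_pCoreOf (p := 2) H
  have nE := le_norm_pRes (p := 2) H
  have EH := pRes_le (p := 2) H
  have pQ := pCoreOf_isPGroup (p := 2) H
  have cc := comm_pRes_pRes pQ nQ
  have TV := h.TM.trans h.nV
  have eU : IsElementaryAbelian 2 (ncl V H) := isElem_ncl_of_asym h.elem (fun e => by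
    obtain ⟨C, c1, c2⟩ := good_of_sym h.syl h.elem TV e
    exact h.ng C c1 c2) hV (QT.trans TV) nQ
  have UQ : ncl V H ≤ pCoreOf 2 H := ncl_le hV nQ
  have nU := le_norm_ncl V H
  have VU := le_ncl V H
  have ngU : ∀ C ≤ pCoreOf 2 H, ¬ Good (ncl V H) C := fun C hC => not_good_ncl fun g hg D hD e => by
    have := e.cj g⁻¹
    rw [H70.cj_inv_cj] at this
    exact h.ng _ ((cj_le_of_mem_norm (nQ (inv_mem hg)) (hD.trans hC)).trans QT) this
  have mU : ∀ X, V ≤ X → H ≤ normalizer (X : Set G) → ncl V H ≤ X := fun X => ncl_le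
  have cU : T ⊓ centralizer (ncl V H : Set G) ≤ pCoreOf 2 H := by
    have n := norm_inf (le_normalizer (H := H)) (norm_centralizer nU)
    exact IsPClosed_le_pCoreOf ((h.min.pIrr hT.pgroup).isPClosed_of_not_le inf_le_left n fun e =>
      h.not_norm (norm_of_cent (e.trans (inf_le_right.trans (cent_anti VU))))) inf_le_left n
      (inf_le_inf_right _ h.TH) (hT.pgroup.to_le inf_le_left)
  have sF := fun A => secF (A := A) (K := K) hT h.min eU bot_le nU norm_of_normal
  have sN := fun A W₁ W₂ => secN (A := A) (W₁ := W₁) (W₂ := W₂) hT h.min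
  have nn := h.not_norm
  have no := fun X => h.norm_of (X := X)
  obtain ⟨A₀, a1, a2⟩ := h.exists_max
  obtain ⟨A, hA, gA⟩ := exists_quad eU (UQ.trans QT) (h.TH.trans nU) a1 fun e =>
    a2 ((le_inf a1.1 e).trans cU)
  have AR : A ≤ T ⊓ centralizer (V : Set G) :=
    (le_jt hA).trans (jt_le_R h.elem h.VT TV h.ng)
  have off := max_off eU (UQ.trans QT) hA
  have bt := fun N Z R => beta (N := N) (Z := Z) (R := R) (pRes_pRes H) (hT.inf_normal' EH nE)
  generalize ncl V H = U at *
  generalize pCoreOf 2 H = Q at *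
  generalize pResidualOf 2 H = E at *
  have cU' := IsElem_le_cent eU
  have nU' : ∀ X, X ≤ U → U ≤ normalizer (X : Set G) := fun X hX =>
    norm_of_cent (cU'.trans (cent_anti hX))
  have AQ : ¬ A ≤ Q := fun e => ngU A e gA
  have AH := hA.1.trans h.TH
  have cA := IsElem_le_cent hA.2.1
  have i1 : (centralizer (U : Set G)).relIndex A =
      (centralizer (U : Set G)).relIndex (Q ⊓ A) * Q.relIndex A := by
    rw [relIndex_inf_mul_relIndex]
    exact relIndex_congr (le_antisymm (le_inf (le_inf inf_le_left ((le_inf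
      (inf_le_right.trans hA.1) inf_le_left).trans cU)) inf_le_right)
      (inf_le_inf_right _ inf_le_left))
  have a2 : 1 < Q.relIndex A := by
    have := FiniteIndex.index_ne_zero (H := Q.subgroupOf A)
    have := mt relIndex_eq_one.1 AQ
    change Q.relIndex A ≠ 0 at *
    omega
  have i2 : (centralizer (A : Set G)).relIndex U < Q.relIndex A ^ 2 := by
    rw [i1] at off
    by_cases e : Q ⊓ A ≤ centralizer (U : Set G)
    · rw [relIndex_eq_one.2 e] at off
      nlinarith
    have b1 := lt_of_not_ge fun e' => ngU _ inf_le_left ⟨⟨e, e'⟩, le_bot_iff.1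
      ((commutator_mono (commutator_mono le_rfl inf_le_right) inf_le_right).trans gA.2.le)⟩
    have b2 : (centralizer ((Q ⊓ A : Subgroup G) : Set G)).relIndex U ≤
        (centralizer (A : Set G)).relIndex U :=
      relIndex_le_of_le_left (cent_anti inf_le_right) FiniteIndex.index_ne_zero
    have b3 := (b1.trans_le b2).trans_le off
    rw [pow_two] at b3
    have b4 := lt_of_mul_lt_mul_left b3 (Nat.zero_le _)
    nlinarith
  have dich : ∀ X, X ≤ U → H ≤ normalizer (X : Set G) →
      ⁅U, E⁆ ≤ X ∨ X ≤ centralizer (E : Set G) := fun X x1 x2 => by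
    by_contra! e
    have b1 := sN A U X eU x1 nU x2 e.1 hA.1 cA
    have b2 := (sN A X ⊥ (IsElem_of_le eU x1) bot_le x2 norm_of_normal
      (fun e' => e.2 (comm_le_bot_iff.1 e')) hA.1 cA).trans (relCent_relIndex_le norm_of_normal)
    have b3 : (centralizer (A : Set G)).relIndex X ≤
        (centralizer (A : Set G)).relIndex (relCent (A : Set G) X ⊓ U) :=
      relIndex_le_of_le_right (le_inf (le_relCent.2 ⟨le_normalizer,
        commutator_le_left_of_norm (AH.trans x2)⟩) x1) FiniteIndex.index_ne_zero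
    have b4 := Nat.mul_le_mul (b2.trans b3) b1
    rw [relIndex_inf_mul_relIndex, ← pow_two, relIndex_congr (Y := centralizer (A : Set G))
      (le_antisymm (inf_le_inf_right _ inf_le_left) (le_inf (le_inf inf_le_left
        (cent_le_relCent (nU' X x1))) inf_le_right))] at b4
    omega
  have QH := QT.trans h.TH
  have u1 : ⁅U, Q⁆ ≤ U := commutator_le_left_of_norm (QH.trans nU)
  have d1 : ⁅U, Q⁆ ≤ centralizer (E : Set G) := (dich _ u1 (norm_commutator nU nQ)).resolve_left
    fun e => nn (by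
      have := H69.le_of_le_sup_comm pQ UQ VU (QT.trans TV) (QH.trans nU) (mU _ le_sup_left
        (no _ (norm_of_between (sup_le VU u1) (e.trans le_sup_right))
          (norm_sup TV (h.TH.trans (norm_commutator nU nQ)))))
      exact le_antisymm VU this ▸ EH.trans nU)
  have x1 : ⁅Q, E⁆ ≤ Q := commutator_le_left_of_norm (EH.trans nQ)
  have nX := norm_commutator nQ nE
  have nD := norm_inf nU (norm_centralizer nE)
  have d2 : ⁅Q, E⁆ ≤ centralizer ((U ⊓ centralizer (E : Set G) : Subgroup G) : Set G) :=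
    comm_eq_bot_iff.1 (commutator_commutator_eq_bot_of_rotate
      (by rw [comm_eq_bot_iff'.2 inf_le_right, commutator_bot_left])
      (comm_eq_bot_iff.2 ((commutator_le_left_of_norm (QH.trans nD)).trans inf_le_right)))
  generalize hX : ⁅Q, E⁆ = X at *
  have d3 : ⁅U, X⁆ ≤ U ⊓ centralizer (E : Set G) :=
    (commutator_mono le_rfl x1).trans (le_inf u1 d1)
  have d4 : ⁅⁅U, X⁆, X⁆ = ⊥ := comm_eq_bot_iff'.2 (d2.trans (cent_anti d3))
  have d5 : X ≤ centralizer (U : Set G) := by
    by_contra e
    obtain ⟨D, e1, e2, e3⟩ := exists_hyper hT.pgroup (pQ.to_le (d3.trans (inf_le_left.trans UQ)))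
      (h.TH.trans (norm_commutator nU nX)) fun e' => e (comm_eq_bot_iff'.1 e')
    have nD' : H ≤ normalizer (D : Set G) :=
      no D (norm_of_cent (cent_comm.1 (e1.trans (d3.trans inf_le_right)))) e3
    have DU := e1.trans (d3.trans inf_le_left)
    have e4 := (dich _ inf_le_left (norm_inf nU (norm_relCent nX nD'))).resolve_left fun e' => by
      have : ⁅⁅E, X⁆, U⁆ ≤ D := three_subgroups (EH.trans nD') ((x1.trans QH).trans nD')
        (nU' D DU) (by
          rw [commutator_comm X U, comm_eq_bot_iff.2 (d3.trans inf_le_right)]; exact bot_le)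
        (le_relCent.1 (e'.trans inf_le_right)).2
      rw [commutator_comm E, cc, commutator_comm] at this
      rw [relIndex_eq_one.2 this] at e2
      omega
    have e5 : (centralizer (X : Set G)).relIndex U ≤ (relCent (X : Set G) D).relIndex U := by
      rw [← inf_relIndex_left U (relCent _ _)]
      exact relIndex_le_of_le_left ((le_inf inf_le_left e4).trans (cent_comm.1 d2))
        FiniteIndex.index_ne_zero
    exact ngU X x1 ⟨⟨e, (e5.trans (pair_le eU ((x1.trans QH).trans nU) d4 e1 e2)).trans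
      (Nat.le_self_pow two_ne_zero _)⟩, d4⟩
  have d6 : X ≤ Q ⊓ centralizer (V : Set G) := le_inf x1 (d5.trans (cent_anti VU))
  have n0 : H ≤ normalizer ((Q ⊓ centralizer (V : Set G) : Subgroup G) : Set G) :=
    no _ (norm_of_between inf_le_left (hX.le.trans d6))
      (norm_inf (h.TH.trans nQ) (norm_centralizer TV))
  have d7 : Q ⊓ A ≤ centralizer (U : Set G) := (inf_le_inf_left _ (AR.trans inf_le_right)).trans
    (cent_comm.1 (mU _ (cent_comm.1 inf_le_right) (norm_centralizer n0)))
  rw [i1, relIndex_eq_one.2 d7, one_mul] at off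
  have f := sF A (fun e => nn (norm_of_cent ((cent_comm.1 (comm_le_bot_iff.1 e)).trans
    (cent_anti VU)))) hA.1 cA AQ ((relCent_relIndex_le norm_of_normal).trans off)
    (AR.trans (h.KT.ge.trans inf_le_left)) h.KB h.nK
  rw [inf_comm T K, h.KT] at f
  have xE : X ≤ E := hX ▸ commutator_le_right_of_norm (QH.trans nE)
  refine (bt X (Q ⊓ E) _ (EH.trans nX) (le_inf (d6.trans (inf_le_inf_right _ QT)) xE)
    (inf_le_inf_right _ inf_le_left) (inf_le_inf_right _ QT)
    ((commutator_mono inf_le_left le_rfl).trans hX.le) f).trans (inf_le_left.trans inf_le_right)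

end QS

end Cfsg.Agent.QRC
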