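import Cfsg.Agent.QT0.QDefs
import Cfsg.Agent.S0607

set_option autoImplicit false
set_option linter.unusedSectionVars false

namespace Cfsg.Agent.QRC

open Cfsg Subgroup Cfsg.Agent.H70 Cfsg.Agent.H92 Cfsg.Agent.H72
open scoped commutatorElement

open Cfsg.Agent.H21 (maxEAOf)

variable {G : Type*} [Group G] [Finite G] {T W A P : Subgroup G}

theorem qoff_conj (hT : SylIn 2 T ⊤) (hn : T ≤ normalizer (W : Set G))
    (hA : A ≤ normalizer (W : Set G)) (h2 : IsPGroup 2 A) : ∃ g, cj g A ≤ T ∧ cj g W = W := by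
  obtain ⟨g, hg, h⟩ := sylIn_exists_cj_le (hT.mono hn le_top) hA h2
  exact ⟨g, h, cj_eq_self hg⟩

theorem good_of_sym (hT : SylIn 2 T ⊤) (hW : IsElementaryAbelian 2 W)
    (hn : T ≤ normalizer (W : Set G)) (hs : IsSymmetricIn W) : ∃ B ≤ T, Good W B := by
  obtain ⟨g, h0, h1⟩ := hs
  change ⁅W, cj g W⁆ ≠ ⊥ at h0
  change ⁅W, cj g W⁆ ≤ W ⊓ cj g W at h1
  have hW' : IsElementaryAbelian 2 (cj g W) := IsElem_map _ hW
  have key : ∀ B, B ≤ normalizer (W : Set G) → IsPGroup 2 B → Good W B → ∃ B ≤ T, Good W B :=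
    fun B hB h2 h => by
      obtain ⟨k, k1, k2⟩ := qoff_conj hT hn hB h2
      exact ⟨_, k1, k2 ▸ h.cj k⟩
  rcases le_total ((centralizer (cj g W : Set G)).relIndex W)
    ((centralizer (W : Set G)).relIndex (cj g W)) with h | h
  · exact key _ (norm_of_commutator_le (h1.trans inf_le_left)) (IsElementaryAbelian_isPGroup hW')
      ⟨⟨fun e => h0 (comm_eq_bot_iff'.2 e), h.trans (Nat.le_self_pow two_ne_zero _)⟩,
        comm_eq_bot_iff.2 (h1.trans (inf_le_right.trans (IsElem_le_cent hW')))⟩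
  · rw [commutator_comm] at h0 h1
    have h2 : Good (cj g W) W :=
      ⟨⟨fun e => h0 (comm_eq_bot_iff'.2 e), h.trans (Nat.le_self_pow two_ne_zero _)⟩,
        comm_eq_bot_iff.2 (h1.trans (inf_le_left.trans (IsElem_le_cent hW)))⟩
    have h3 := h2.cj g⁻¹
    have h4 := cj_mono g⁻¹ (norm_of_commutator_le (h1.trans inf_le_right))
    rw [cj_normalizer] at h4
    rw [cj_inv_cj] at h3 h4
    exact key _ h4 (isPGroup_cj _ (IsElementaryAbelian_isPGroup hW)) h3

theorem cub_conj (hT : SylIn 2 T ⊤) (hn : T ≤ normalizer (W : Set G))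
    (hA : A ≤ normalizer (W : Set G)) (h : Cub W A) : ∃ B ≤ T, Cub W B := by
  obtain ⟨k, k1, k2⟩ := qoff_conj hT hn hA (IsElementaryAbelian_isPGroup h.2.2)
  exact ⟨_, k1, k2 ▸ h.cj k⟩

theorem max_off (hW : IsElementaryAbelian 2 W) (hWP : W ≤ P) (hA : A ∈ maxEAOf 2 P) :
    (centralizer (A : Set G)).relIndex W ≤ (centralizer (W : Set G)).relIndex A := by
  have c0 : centralizer (W : Set G) ⊓ A ≤ centralizer (A : Set G) :=
    inf_le_right.trans (IsElem_le_cent hA.2.1)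
  have c1 : (centralizer (W : Set G) ⊓ A) ⊔ W ≤
      centralizer (((centralizer (W : Set G) ⊓ A) ⊔ W : Subgroup G) : Set G) := by
    rw [cent_sup]
    exact sup_le (le_inf (c0.trans (cent_anti inf_le_right)) inf_le_left)
      (le_inf (cent_comm.1 inf_le_left) (IsElem_le_cent hW))
  have e : IsElementaryAbelian 2 ((centralizer (W : Set G) ⊓ A) ⊔ W) :=
    IsElem_of_le (isElem_omegaOne c1) (sup_le
      (le_omegaOne (IsElem_of_le hA.2.1 inf_le_right) le_sup_left) (le_omegaOne hW le_sup_right))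
  have h1 := hA.2.2 _ (sup_le (inf_le_right.trans hA.1) hWP) e
  have h2 := H21.card_sup_mul_card_inf' (X := centralizer (W : Set G) ⊓ A) (Y := W)
    (norm_of_cent inf_le_left)
  have h3 : Nat.card ↥((centralizer (W : Set G) ⊓ A) ⊓ W) ≤
      Nat.card ↥(centralizer (A : Set G) ⊓ W) := card_le_of_le (inf_le_inf_right _ c0)
  have h4 := H21.card_inf_mul_relIndex (centralizer (A : Set G)) W
  have h5 := H21.card_inf_mul_relIndex (centralizer (W : Set G)) A
  have h6 := Nat.mul_le_mul h1 h3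
  rw [h2] at h6
  have p1 := H21.card_pos' (centralizer (A : Set G) ⊓ W)
  have p2 := H21.card_pos' (centralizer (W : Set G) ⊓ A)
  generalize Nat.card ↥(centralizer (A : Set G) ⊓ W) = a at *
  generalize Nat.card ↥(centralizer (W : Set G) ⊓ A) = b at *
  rw [← h4, ← h5] at h6
  refine Nat.le_of_mul_le_mul_left (c := b * a) ?_ (Nat.mul_pos p2 p1)
  calc b * a * _ = b * (a * _) := mul_assoc _ _ _
    _ ≤ _ := h6
    _ = _ := by ring

theorem exists_quad (hW : IsElementaryAbelian 2 W) (hWP : W ≤ P)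
    (hn : P ≤ normalizer (W : Set G)) (hA : A ∈ maxEAOf 2 P) (hc : ¬ A ≤ centralizer (W : Set G)) :
    ∃ B ∈ maxEAOf 2 P, Good W B := by
  have := normal_subgroupOf_of_le_normalizer hn
  rw [H21.maxEAOf_eq_image] at hA
  obtain ⟨A', hA', rfl⟩ := hA
  obtain ⟨h1, h2, h3⟩ := S0607.result (W.subgroupOf P)
    (IsElem_comap_of_injective _ P.subtype_injective hW) A' hA'
  generalize ⁅W.subgroupOf P, A'⁆ ⊔
    (A' ⊓ centralizer ((⁅W.subgroupOf P, A'⁆ : Subgroup P) : Set P)) = B at h1 h2 h3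
  have hB : B.map P.subtype ∈ maxEAOf 2 P := by
    rw [H21.maxEAOf_eq_image]; exact ⟨B, h1, rfl⟩
  have e := map_subgroupOf_eq_of_le hWP
  refine ⟨_, hB, ⟨fun h => h3 (fun h4 => hc ?_) ?_,
    (max_off hW hWP hB).trans (Nat.le_self_pow two_ne_zero _)⟩, ?_⟩
  · rw [← comm_eq_bot_iff', ← e, ← map_commutator, h4, Subgroup.map_bot]
  · rwa [← comm_eq_bot_iff', ← e, ← map_commutator,
      map_eq_bot_iff_of_injective _ P.subtype_injective] at h
  · rw [← e, ← map_commutator, ← map_commutator, h2, Subgroup.map_bot]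

end Cfsg.Agent.QRC
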