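import Cfsg.Agent.QT0.QDefs

/-! The qrc-lemma: `R` is weakly closed in `H`; a `Y`-minimal subgroup of characteristic two. -/

set_option autoImplicit false
set_option linter.unusedSectionVars false

namespace Cfsg.Agent.QRC

open Cfsg Subgroup Cfsg.Agent.H70 Cfsg.Agent.H92 Cfsg.Agent.H72
open scoped commutatorElement

variable {G : Type*} [Group G] [Finite G] {T M H B V K : Subgroup G}

theorem ncl_le_of_asym {Y A R X : Subgroup G} (hs : ¬ IsSymmetricIn Y) (hYA : Y ≤ A)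
    (hM : M ≤ normalizer (A : Set G)) (h1 : A ≤ R) (hX : X ≤ normalizer (R : Set G))
    (hRY : R ≤ normalizer (Y : Set G)) (hc : R ⊓ centralizer (Y : Set G) ≤ A) :
    ncl Y (M ⊔ X) ≤ A := by
  have step : ∀ (l : List G), l ≠ [] → (∀ x ∈ l, x ∈ M ∨ x ∈ X) →
      cj l.tail.prod Y ≤ A → cj l.prod Y ≤ R := by
    rintro (_ | ⟨s, l⟩) hl hm hI
    · exact absurd rfl hl
    rw [List.prod_cons, cj_mul]
    rcases hm s List.mem_cons_self with hs | hs
    · exact (cj_le_of_mem_norm (hM hs) hI).trans h1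
    · exact cj_le_of_mem_norm (hX hs) (hI.trans h1)
  have key : ∀ (n : ℕ) (l : List G), l.length = n → (∀ x ∈ l, x ∈ M ∨ x ∈ X) →
      cj l.prod Y ≤ A := by
    intro n
    induction n with
    | zero => intro l hl _; rw [List.length_eq_zero_iff.1 hl]; simpa using hYA
    | succ n ih =>
      intro l hl hm
      have h3 := step l (by rintro rfl; simp at hl) hm
        (ih _ (by simp [hl]) fun x hx => hm x (List.mem_of_mem_tail hx))
      have hm' : ∀ x ∈ (l.map fun x => x⁻¹).reverse, x ∈ M ∨ x ∈ X := by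
        intro x hx
        obtain ⟨y, hy, rfl⟩ := List.mem_map.1 (List.mem_reverse.1 hx)
        exact (hm y hy).imp inv_mem inv_mem
      have h4 := step _ (by
        rintro e; simp [List.map_eq_nil_iff.1 (List.reverse_eq_nil_iff.1 e)] at hl)
        hm' (ih _ (by simp [hl]) fun x hx => hm' x (List.mem_of_mem_tail hx))
      rw [← List.prod_inv_reverse] at h4
      refine le_trans (le_inf h3 ?_) hc
      by_contra hne
      refine hs ⟨l.prod, fun e => hne (comm_eq_bot_iff'.1 e), le_inf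
        (commutator_le_left_of_norm (h3.trans hRY)) (commutator_le_right_of_norm ?_)⟩
      change Y ≤ normalizer (cj l.prod Y : Set G)
      rw [← cj_normalizer, le_cj_iff]
      exact h4.trans hRY
  refine ncl_le_iff.2 fun g hg => ?_
  rw [sup_eq_closure, ← mem_toSubmonoid, closure_toSubmonoid] at hg
  obtain ⟨l, hl, rfl⟩ := Submonoid.exists_list_of_mem_closure hg
  refine key _ l rfl fun x hx => ?_
  rcases hl x hx with h | h
  · exact h
  · exact Or.imp (fun h => inv_mem_iff.1 h) (fun h => inv_mem_iff.1 h) (Set.mem_inv.1 h)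

theorem QS.inf_K (h : QS T M H B V K) {P : Subgroup G} (hP : IsPGroup 2 P)
    (h1 : T ⊓ centralizer (V : Set G) ≤ P) : P ⊓ K = T ⊓ centralizer (V : Set G) := by
  have h2 := (h.sylH.mono h.min.le h.min.lt.le).inf_normal' h.KB h.nK
  rw [inf_comm T, h.KT] at h2
  exact h2.max _ inf_le_right hP.to_inf_left (le_inf h1 h2.le)

theorem QS.norm_le_T (h : QS T M H B V K)
    (hs : ¬ IsSymmetricIn (oz 2 (T ⊓ centralizer (V : Set G)))) {P : Subgroup G}
    (h1 : T ⊓ centralizer (V : Set G) ≤ P) (h2 : P ≤ T) : H ⊓ normalizer (P : Set G) ≤ B := by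
  have h3 := ncl_le_of_asym (X := H ⊓ normalizer (P : Set G)) hs (oz_le _) h.nR h1 inf_le_right
    ((h2.trans h.TM).trans h.nY) (inf_le_inf h2 (cent_anti h.VY))
  have h4 := le_norm_ncl (oz 2 (T ⊓ centralizer (V : Set G))) (M ⊔ H ⊓ normalizer (P : Set G))
  have h5 := h.nn _ (fun e => h.V0 (le_bot_iff.1 ((h.VY.trans (le_ncl _ _)).trans e.le))) h3
    (le_sup_left.trans h4)
  exact (le_inf inf_le_left (le_sup_right.trans h4)).trans (h.min.uniq _
    (le_inf h.TH ((h.TM.trans le_sup_left).trans h4)) (inf_lt_left.2 h5))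

theorem QS.norm_le_B (h : QS T M H B V K)
    (hs : ¬ IsSymmetricIn (oz 2 (T ⊓ centralizer (V : Set G)))) {P : Subgroup G}
    (hP : IsPGroup 2 P) (h1 : T ⊓ centralizer (V : Set G) ≤ P) (h2 : P ≤ B) :
    H ⊓ normalizer (P : Set G) ≤ B := by
  obtain ⟨b, hb, h3⟩ := sylIn_exists_cj_le (h.sylH.mono h.min.le h.min.lt.le) h2 hP
  have h4 : cj b (T ⊓ centralizer (V : Set G)) = T ⊓ centralizer (V : Set G) := by
    refine cj_eq_self (mem_normalizer_of_cj_le ?_)
    conv_lhs => rw [← h.inf_K hP h1, cj_inf, cj_eq_self (h.nK hb)]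
    rw [← h.KT, inf_comm K]
    exact inf_le_inf_right _ h3
  have h5 := h.norm_le_T hs (h4.ge.trans (cj_mono b h1)) h3
  rwa [← cj_normalizer, ← cj_eq_self_of_mem (h.min.lt.le hb), ← cj_inf, ← cj_eq_self_of_mem hb,
    cj_le_cj_iff] at h5

theorem QS.norm_le (h : QS T M H B V K)
    (hs : ¬ IsSymmetricIn (oz 2 (T ⊓ centralizer (V : Set G)))) {P : Subgroup G}
    (hP : IsPGroup 2 P) (h1 : T ⊓ centralizer (V : Set G) ≤ P) (h2 : P ≤ H) :
    H ⊓ normalizer (P : Set G) ≤
      normalizer ((T ⊓ centralizer (V : Set G) : Subgroup G) : Set G) := by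
  have h3 : P ⊓ B = P := eq_of_inf_norm_le hP inf_le_left (le_inf inf_le_left
    ((inf_le_inf_right _ h2).trans (h.norm_le_B hs hP.to_inf_left
      (le_inf h1 (inf_le_left.trans h.min.le)) inf_le_right)))
  rw [← h.inf_K hP h1]
  exact norm_inf inf_le_right ((h.norm_le_B hs hP h1 (h3.ge.trans inf_le_right)).trans h.nK)

theorem exists_L_top {R : Subgroup G} (hc : IsChar 2 (⊤ : Subgroup G)) (hR : IsPGroup 2 R)
    (hw : WC 2 R) (hs : ¬ IsSymmetricIn (oz 2 R)) (hY : ¬ oz 2 R ≤ pCoreOf 2 ⊤) :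
    ∃ L : Subgroup G, MinOver (oz 2 R) L (L ⊓ normalizer (oz 2 R : Set G)) ∧ IsChar 2 L := by
  obtain ⟨H, ⟨a1, a2⟩, hmin⟩ := (wellFounded_lt (α := Subgroup G)).has_min
    {P | R ≤ P ∧ ¬ oz 2 R ≤ pCoreOf 2 P} ⟨⊤, le_top, hY⟩
  have hm : ∀ P, R ≤ P → P < H → oz 2 R ≤ pCoreOf 2 P := fun P h1 h2 => by
    by_contra h3
    exact hmin P ⟨h1, h3⟩ h2
  have hgen : ncl R H = H := (ncl_le_of_le a1).eq_or_lt.resolve_right fun e =>
    a2 ((hm _ (le_ncl R H) e).trans (pCoreOf_le_pCoreOf_of_norm e.le (le_norm_ncl R H)))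
  have hOp := pCoreOf_isPGroup (p := 2) (⊤ : Subgroup G)
  have hO := le_norm_pCoreOf (p := 2) (⊤ : Subgroup G)
  have hOH : pCoreOf 2 ⊤ ≤ normalizer (H : Set G) := hgen ▸
    le_norm_cj_of_norm (hw.le_norm_of_norm hR hOp (le_top.trans hO)) (le_top.trans hO)
  have hchar : IsChar 2 H := by
    refine isChar_of_isPGroup_cent (hc.isPGroup_of_pRes_le_cent le_top
      (pRes_le_cent_of_step (pCoreOf_isPGroup H) ?_ inf_le_right))
    exact (commutator_mono le_rfl inf_le_left).trans (le_pCoreOf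
      (commutator_le_right_of_norm hOH) (normalizer_commutator_ge_right _ _)
      (hOp.to_le (commutator_le_left_of_norm (le_top.trans hO))))
  obtain ⟨L, ⟨b1, b2, b3⟩, hmin'⟩ := (wellFounded_lt (α := Subgroup G)).has_min
    {P | P ≤ H ∧ oz 2 R ≤ P ∧ ¬ oz 2 R ≤ pCoreOf 2 P} ⟨H, le_rfl, (oz_le R).trans a1, a2⟩
  obtain ⟨-, c1, c2, -⟩ := FH.minimal ⟨hchar, hR, oz_le R, norm_oz le_rfl, a1, a2, hm⟩ hw
    (IsElem_le_cent (oz_isElem R)) (le_cent_oz R) (fun P h1 h2 => IsElem_le_cent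
      (isElem_ncl_of_asym (oz_isElem R) hs (hm P h1 h2) (norm_oz (hw.le_norm_of_norm hR
        (pCoreOf_isPGroup P) (h1.trans (le_norm_pCoreOf P)))) (le_norm_pCoreOf P))) b1 b2 b3
    fun L' h1 h2 h3 => h1.eq_or_lt.resolve_right (hmin' L' ⟨h1.trans b1, h2, h3⟩)
  exact ⟨L, c1, c2⟩

theorem QS.exists_L (h : QS T M H B V K)
    (hs : ¬ IsSymmetricIn (oz 2 (T ⊓ centralizer (V : Set G)))) (hV : ¬ V ≤ pCoreOf 2 H) :
    ∃ L : Subgroup G, MinOver (oz 2 (T ⊓ centralizer (V : Set G))) L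
      (L ⊓ normalizer (oz 2 (T ⊓ centralizer (V : Set G)) : Set G)) ∧ IsChar 2 L := by
  set R := T ⊓ centralizer (V : Set G) with hRd
  have hRH : R ≤ H := inf_le_left.trans h.TH
  have hi := H.subtype_injective
  have e : (oz 2 (R.subgroupOf H)).map H.subtype = oz 2 R := by
    rw [map_oz_inj hi, map_subtype_subgroupOf hRH]
  obtain ⟨L, h1, h2⟩ := exists_L_top (R := R.subgroupOf H) (isChar_top_iff.2 (isChar_iff.1 h.char))
    (H70.isPGroup_subgroupOf h.syl.pgroup.to_inf_left) (wc_of_norm fun P hP h1 => by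
      rw [← map_subtype_le_map_subtype_iff, map_subtype_normalizer, map_subtype_normalizer,
        map_subtype_subgroupOf hRH]
      exact le_inf inf_le_left (h.norm_le hs (hP.map _) ((subgroupOf_le_iff hRH).1 h1)
        (map_subtype_le P)))
    (fun ⟨g, h1, h2⟩ => hs ⟨g, by
      change ⁅oz 2 R, cj (H.subtype g) (oz 2 R)⁆ ≠ ⊥ ∧
        ⁅oz 2 R, cj (H.subtype g) (oz 2 R)⁆ ≤ oz 2 R ⊓ cj (H.subtype g) (oz 2 R)
      rw [← e, ← H70.map_cj, ← map_commutator, ← map_subtype_inf, map_subtype_le_map_subtype_iff,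
        Ne, map_eq_bot_iff_of_injective _ hi]
      exact ⟨h1, h2⟩⟩)
    fun h1 => hV (h.VY.trans (by
      have h2 := map_mono (f := H.subtype) h1
      rwa [e, map_pCoreOf_of_injective _ hi, map_subtype_top] at h2))
  refine ⟨L.map H.subtype, ?_, ?_⟩
  · have h3 := h1.map_of_injective _ hi
    rwa [map_subtype_inf, map_subtype_normalizer, e, ← inf_assoc,
      inf_eq_left.2 (map_subtype_le L)] at h3
  · rw [IsChar, ← map_pCoreOf_of_injective _ hi, ← map_inf_cent_inj hi]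
    exact map_mono h2

end Cfsg.Agent.QRC
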