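import Cfsg.Agent.QT0.QDefs

/-! The qrc-lemma: a `Y`-minimal subgroup of characteristic two gives a cubic `2F`-offender. -/

set_option autoImplicit false
set_option linter.unusedSectionVars false

namespace Cfsg.Agent.QRC

open Cfsg Subgroup Cfsg.Agent.H70 Cfsg.Agent.H92 Cfsg.Agent.H72
open scoped commutatorElement

variable {G : Type*} [Group G] [Finite G] {Y L : Subgroup G}

theorem comm_inf_norm_le {Y' : Subgroup G} (hY : IsElementaryAbelian 2 Y)
    (hY' : IsElementaryAbelian 2 Y') (hm : MinOver Y L (L ⊓ normalizer (Y : Set G))) (hL : Y' ≤ L) :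
    ⁅Y ⊓ normalizer (Y' : Set G), Y'⁆ ≤ Y' ⊓ normalizer (Y : Set G) := by
  refine commutator_le.2 fun d hd y hy => ?_
  have h1 : ⁅d, y⁆ ∈ Y' := commutator_le_right_of_norm inf_le_right (commutator_mem_commutator hd hy)
  refine ⟨h1, ?_⟩
  rcases hm.eq_or_le (X := L ⊓ centralizer {d}) (le_inf hm.le' fun x hx =>
    mem_centralizer_singleton_iff.2 (IsElem_le_cent hY hd.1 x hx)) inf_le_left with e | e
  · rw [commutatorElement_eq_one_iff_mul_comm.2
      (mem_centralizer_singleton_iff.1 (e.ge (hL hy)).2).symm]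
    exact one_mem _
  · refine (e ⟨hL h1, mem_centralizer_singleton_iff.2 ?_⟩).2
    have d2 : d⁻¹ = d := inv_eq_of_mul_eq_one_right (by rw [← pow_two]; exact hY.2 d hd.1)
    have c2 : ⁅d, y⁆⁻¹ = ⁅d, y⁆ := inv_eq_of_mul_eq_one_right (by rw [← pow_two]; exact hY'.2 _ h1)
    calc ⁅d, y⁆ * d = d * (y * d⁻¹ * y⁻¹ * d) := by rw [commutatorElement_def]; group
      _ = d * ⁅d, y⁆⁻¹ := by rw [commutatorElement_inv, commutatorElement_def, d2]
      _ = _ := by rw [c2]

theorem cub_of_min (hY : IsElementaryAbelian 2 Y)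
    (hm : MinOver Y L (L ⊓ normalizer (Y : Set G))) (hc : IsChar 2 L) :
    ∃ A ≤ normalizer (Y : Set G), Cub Y A := by
  have hYp := IsElementaryAbelian_isPGroup hY
  have hYc := IsElem_le_cent hY
  obtain ⟨g, hg, hg'⟩ := SetLike.exists_of_lt hm.lt
  set Y' := cj g Y with hY'd
  have hY' : IsElementaryAbelian 2 Y' := IsElem_map _ hY
  have hYc' := IsElem_le_cent hY'
  have hm' : MinOver Y' L (L ⊓ normalizer (Y' : Set G)) := by
    have := hm.cj_of_mem hg
    rwa [cj_inf, cj_eq_self_of_mem hg, cj_normalizer] at this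
  have hgen : Y ⊔ Y' = L := hm.sup_cj hg hg'
  set O := pCoreOf 2 L with hO
  have hLO : L ≤ normalizer (O : Set G) := le_norm_pCoreOf L
  have hOY : O ≤ normalizer (Y : Set G) := (hm.pCoreOf_le hYp).trans inf_le_right
  have hOY' : O ≤ normalizer (Y' : Set G) :=
    (hm'.pCoreOf_le (IsElementaryAbelian_isPGroup hY')).trans inf_le_right
  set Z := Y ⊓ Y' with hZ
  have hLZ : L ≤ centralizer (Z : Set G) := hgen ▸
    sup_le (hYc.trans (cent_anti inf_le_left)) (hYc'.trans (cent_anti inf_le_right))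
  have hZO : Z ≤ O := le_trans (le_inf (inf_le_left.trans hm.le')
    (cent_comm.1 ((pCoreOf_le L).trans hLZ))) hc
  have hD' : Y ⊓ normalizer (Y' : Set G) ≤ O := by
    have c1 := comm_inf_norm_le hY hY' hm hm'.le'
    have c2 := comm_inf_norm_le hY' hY hm' hm.le'
    have z1 : ⁅Y ⊓ normalizer (Y' : Set G), Y⁆ = ⊥ := comm_eq_bot_iff.2 (inf_le_left.trans hYc)
    have z2 : ⁅Y' ⊓ normalizer (Y : Set G), Y'⁆ = ⊥ := comm_eq_bot_iff.2 (inf_le_left.trans hYc')
    refine le_sup_left.trans (le_pCoreOf (N := _ ⊔ Y' ⊓ normalizer (Y : Set G))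
      (sup_le (inf_le_left.trans hm.le') (inf_le_left.trans hm'.le')) (hgen ▸ sup_le
        (norm_of_commutator_le (comm_sup_le (norm_of_le le_sup_left) (norm_of_le le_sup_right)
          (z1.le.trans bot_le) (c2.trans le_sup_left)))
        (norm_of_commutator_le (comm_sup_le (norm_of_le le_sup_left) (norm_of_le le_sup_right)
          (c1.trans le_sup_right) (z2.le.trans bot_le))))
      (isPGroup_sup_of_norm' hYp.to_inf_left (IsElementaryAbelian_isPGroup hY').to_inf_left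
        (norm_inf inf_le_right (norm_normalizer (norm_of_le inf_le_left)))))
  set D := Y ⊓ O with hD
  set A := Y' ⊓ O with hA
  have hDA : cj g D = A := by rw [hD, cj_inf, cj_eq_self (hLO hg)]
  have hZg : cj g Z = Z := cj_eq_self (norm_of_cent hLZ hg)
  have hAY : A ≤ normalizer (Y : Set G) := inf_le_right.trans hOY
  have c1 : ⁅O, Y⁆ ≤ D :=
    le_inf (commutator_le_right_of_norm hOY) (commutator_le_left_of_norm (hm.le'.trans hLO))
  have c2 : ⁅O, Y'⁆ ≤ A :=
    le_inf (commutator_le_right_of_norm hOY') (commutator_le_left_of_norm (hm'.le'.trans hLO))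
  have c3 : ⁅Y, A⁆ ≤ D := by
    rw [commutator_comm]; exact (commutator_mono inf_le_right le_rfl).trans c1
  have c4 : ⁅D, A⁆ ≤ Z := le_inf ((commutator_mono inf_le_left le_rfl).trans (c3.trans inf_le_left))
    ((commutator_mono inf_le_right inf_le_left).trans (c2.trans inf_le_left))
  have hZA : Z ≤ centralizer (A : Set G) := inf_le_right.trans (hYc'.trans (cent_anti inf_le_left))
  have hAC : A ⊓ centralizer (Y : Set G) = Z := by
    refine le_antisymm (fun x hx => ⟨?_, hx.1.1⟩) (le_inf (le_inf inf_le_right hZO)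
      (inf_le_left.trans hYc))
    have h1 : x ∈ centralizer (L : Set G) := by
      rw [← hgen, cent_sup]; exact ⟨hx.2, hYc' hx.1.1⟩
    have h2 := mem_cj.1 hx.1.1
    rwa [mul_assoc, ← h1 g hg, inv_mul_cancel_left] at h2
  have hn : ¬ A ≤ centralizer (Y : Set G) := fun h => by
    have h1 : A ≤ Z := (le_inf le_rfl h).trans hAC.le
    have h2 : D ≤ Z := by rwa [← hDA, ← hZg, cj_le_cj_iff] at h1
    have h3 : ⁅O, L⁆ ≤ Z := hgen ▸ comm_sup_le' (hm.le'.trans (norm_of_cent hLZ))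
      (hm'.le'.trans (norm_of_cent hLZ)) (c1.trans h2) (c2.trans h1)
    exact hm.not_le_pCoreOf hYp (hm.le'.trans (pCoreOf_eq_self (hc.isPGroup_of_pRes_le_cent le_rfl
      (pRes_le_cent_of_step hYp.to_inf_left h3 hLZ))).ge)
  refine ⟨A, hAY, ⟨hn, ?_⟩, le_bot_iff.1 ((commutator_mono ((commutator_mono c3 le_rfl).trans c4)
    le_rfl).trans (comm_eq_bot_iff.2 hZA).le), IsElem_of_le hY' inf_le_left⟩
  obtain ⟨a, ha, ha'⟩ := SetLike.not_le_iff_exists.1 hn
  have hm1 : ∀ y ∈ Y, ⁅y, a⁆ ∈ D := fun y hy => c3 (commutator_mem_commutator hy ha)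
  let φ : Y →* D := MonoidHom.mk' (fun y => ⟨⁅(y : G), a⁆, hm1 _ y.2⟩) fun y z => Subtype.ext (by
    have h1 := hYc (hm1 _ z.2).1 _ y.2
    have h2 := hYc (hm1 _ z.2).1 _ (hm1 _ y.2).1
    change ⁅(y : G) * z, a⁆ = ⁅(y : G), a⁆ * ⁅(z : G), a⁆
    rw [h2]
    calc ⁅(y : G) * z, a⁆ = y * ⁅(z : G), a⁆ * ((y : G)⁻¹ * ⁅(y : G), a⁆) := by
          simp only [commutatorElement_def]; group
      _ = _ := by rw [h1]; group)
  have hker : (Z.subgroupOf D).comap φ ≤ D.subgroupOf Y := fun y hy => by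
    refine ⟨y.2, hD' ⟨y.2, ?_⟩⟩
    by_contra hy'
    have h1 := hm'.eq_of_not_le (X := L ⊓ relCent {a} Z) (le_inf hm'.le' fun x hx =>
      ⟨norm_of_cent hLZ (hm'.le' hx), by
        rintro _ rfl
        rw [commutatorElement_eq_one_iff_mul_comm.2 (hYc' ha.1 x hx)]
        exact one_mem _⟩) inf_le_left fun h => hy' (h ⟨hm.le' y.2,
          norm_of_cent hLZ (hm.le' y.2), by rintro _ rfl; exact hy⟩).2
    have h2 : ⁅g⁻¹, a⁆ ∈ Y := ((h1.ge (inv_mem hg)).2.2 a rfl).1
    have h3 := mul_mem (inv_mem h2) (mem_cj.1 ha.1)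
    rw [commutatorElement_inv, commutatorElement_def] at h3
    exact ha' (hYc (by simpa [mul_assoc] using h3))
  have i1 : D.relIndex Y ≤ Z.relIndex D := (index_antitone hker).trans (by
    rw [index_comap, relIndex.eq_1 Z, ← relIndex_top_right]
    exact relIndex_le_of_le_right le_top FiniteIndex.index_ne_zero)
  have i2 : (centralizer (Y : Set G)).relIndex A = Z.relIndex D := by
    rw [← inf_relIndex_left, hAC, ← hDA, ← hZg, relIndex_cj, hZg]
  rw [i2, pow_two]
  refine (relIndex_le_of_le_left hZA FiniteIndex.index_ne_zero).trans ?_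
  rw [← relIndex_mul_relIndex Z D Y (le_inf inf_le_left hZO) inf_le_left]
  exact Nat.mul_le_mul_left _ i1

end Cfsg.Agent.QRC
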