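import Cfsg.Agent.QT0.QDefs
import Cfsg.Agent.H72.FFD
import Cfsg.Agent.H72.Sec

/-! The qrc-lemma: the module attached to a noncentral chief factor. -/

set_option autoImplicit false
set_option linter.unusedSectionVars false

namespace Cfsg.Agent.QRC

open Cfsg Subgroup Cfsg.Agent.H70 Cfsg.Agent.H92 Cfsg.Agent.H72
open scoped commutatorElement

open Cfsg.Agent.H69 (fixA)

theorem exists_chief {G : Type*} [Group G] [Finite G] {H W₁ W₂ : Subgroup G}
    (hW : IsPGroup 2 W₁) (h21 : W₂ ≤ W₁)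
    (n1 : H ≤ normalizer (W₁ : Set G)) (n2 : H ≤ normalizer (W₂ : Set G))
    (nc : ¬ ⁅W₁, pResidualOf 2 H⁆ ≤ W₂) : ∃ U Z : Subgroup G, W₂ ≤ Z ∧ Z < U ∧ U ≤ W₁ ∧
      H ≤ normalizer (U : Set G) ∧ H ≤ normalizer (Z : Set G) ∧ ¬ ⁅U, pResidualOf 2 H⁆ ≤ Z ∧
      ∀ X, Z < X → X ≤ U → H ≤ normalizer (X : Set G) → X = U := by
  obtain ⟨U, ⟨u1, u2, u3, u4⟩, hU⟩ := (wellFounded_lt (α := Subgroup G)).has_min
    {X | W₂ ≤ X ∧ X ≤ W₁ ∧ H ≤ normalizer (X : Set G) ∧ ¬ ⁅X, pResidualOf 2 H⁆ ≤ W₂}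
    ⟨W₁, h21, le_rfl, n1, nc⟩
  obtain ⟨Z, ⟨z1, z2, z3⟩, hZ⟩ := (wellFounded_gt (α := Subgroup G)).has_min
    {X | W₂ ≤ X ∧ X < U ∧ H ≤ normalizer (X : Set G)} ⟨W₂, le_rfl, lt_of_le_of_ne u1 fun e =>
      u4 (e ▸ commutator_le_left_of_norm ((pRes_le H).trans n2)), n2⟩
  refine ⟨U, Z, z1, z2, u2, u3, z3, fun e => u4 ?_, fun X x1 x2 x3 => by_contra fun e =>
    hZ X ⟨z1.trans x1.le, lt_of_le_of_ne x2 e, x3⟩ x1⟩
  rw [← comm_pRes_pRes (hW.to_le u2) u3]
  refine (commutator_mono e le_rfl).trans (by_contra fun e' => ?_)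
  exact hU Z ⟨z1, z2.le.trans u2, z3, e'⟩ z2

theorem exists_ff.{u} {G : Type u} [Group G] [Finite G] {T H B W₁ W₂ : Subgroup G}
    (hT : SylIn 2 T H) (hm : MinOver T H B) (hW : IsElementaryAbelian 2 W₁) (h21 : W₂ ≤ W₁)
    (n1 : H ≤ normalizer (W₁ : Set G)) (n2 : H ≤ normalizer (W₂ : Set G))
    (nc : ¬ ⁅W₁, pResidualOf 2 H⁆ ≤ W₂) :
    ∃ (Γ : Type u) (_ : Group Γ) (_ : Finite Γ) (W : Type u) (_ : AddCommGroup W) (_ : Finite W)
      (_ : DistribMulAction Γ W) (π : H →* Γ), Function.Surjective π ∧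
      FF W 2 ((T.subgroupOf H).map π) ((B.subgroupOf H).map π) ∧ π.ker ≤ B.subgroupOf H ∧
      T.subgroupOf H ⊓ π.ker = (pCoreOf 2 H).subgroupOf H ∧
      ∀ A ≤ H, Nat.card W ≤ (relCent (A : Set G) W₂).relIndex W₁ *
        Nat.card (fixA W ((A.subgroupOf H).map π)) := by
  have pW := IsElementaryAbelian_isPGroup hW
  obtain ⟨U, Z, z1, z2, u1, nU, nZ, nc', ch⟩ := exists_chief pW h21 n1 n2 nc
  have cU : ∀ X, X ≤ W₁ → U ≤ normalizer (X : Set G) := fun X hX =>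
    norm_of_cent (u1.trans ((IsElem_le_cent hW).trans (cent_anti hX)))
  have UZ := cU Z (z2.le.trans u1)
  obtain ⟨W, _, ψ, s₀⟩ := exists_sc0 z2.le (by
    rw [comm_eq_bot_iff.2 (u1.trans ((IsElem_le_cent hW).trans (cent_anti u1)))]; exact bot_le)
  obtain ⟨π, s⟩ := s₀.exists_pi nU nZ
  have := s₀.finite
  have := au_finite W
  have fx : ∀ P ≤ H, IsPGroup 2 P → Z < U ⊓ relCent (P : Set G) Z := fun P p1 p2 =>
    lt_of_le_of_ne (le_inf z2.le (le_relCent.2 ⟨le_normalizer,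
      commutator_le_left_of_norm (p1.trans nZ)⟩)) fun e => exists_central_mod (pW.to_le u1) p2
        (p1.trans nU) UZ (p1.trans nZ) z2.not_ge (le_trans (le_inf inf_le_left (le_relCent.2
          ⟨inf_le_left.trans UZ, (commutator_mono inf_le_right le_sup_right).trans
            (le_relCent.1 le_rfl).2⟩)) e.ge)
  have mf : ∀ A ≤ H, ∀ u ∈ U, ψ u ∈ fixA W ((A.subgroupOf H).map π.rangeRestrict) ↔
      u ∈ relCent (A : Set G) Z := fun A hA u hu =>
    ⟨fun e => ⟨UZ hu, fun a ha => by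
      rw [← commutatorElement_inv]
      exact inv_mem ((s.smul_eq_iff ⟨a, hA ha⟩ hu).1 (e (π.rangeRestrict ⟨a, hA ha⟩)
        (mem_map_of_mem _ ha)))⟩, fun e _ ⟨a, ha, e'⟩ => e' ▸ (s.smul_eq_iff a hu).2 (by
          rw [← commutatorElement_inv]; exact inv_mem (e.2 a ha))⟩
  have hk : π.rangeRestrict.ker = (relCent (U : Set G) Z).subgroupOf H := by
    ext g
    rw [MonoidHom.ker_rangeRestrict, MonoidHom.mem_ker, s.eq_one_iff]
    exact ⟨fun e => ⟨nZ g.2, e⟩, fun e => e.2⟩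
  have nK := norm_inf (le_normalizer (H := H)) (norm_relCent nU nZ)
  have k0 : ¬ pResidualOf 2 H ≤ H ⊓ relCent (U : Set G) Z := fun e =>
    nc' ((commutator_comm _ _).le.trans (le_relCent.1 (e.trans inf_le_right)).2)
  have k1 : π.rangeRestrict.ker ≤ B.subgroupOf H := fun g hg =>
    (hm.pRes_le_or hT.pgroup inf_le_left nK).resolve_left k0 ⟨g.2, hk.le hg⟩
  have nQ := le_norm_pCoreOf (p := 2) H
  have k2 : (pCoreOf 2 H).subgroupOf H ≤ π.rangeRestrict.ker := hk ▸ subgroupOf_mono H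
    (le_relCent.2 ⟨(H70.pCoreOf_le H).trans nZ, (commutator_comm _ _).le.trans (le_relCent.1
      ((ch _ (fx _ (H70.pCoreOf_le H) (pCoreOf_isPGroup H)) inf_le_left
        (norm_inf nU (norm_relCent nQ nZ))).ge.trans inf_le_right)).2⟩)
  have hπ := π.rangeRestrict_surjective
  have t := sylIn_top hT.toSylow
  rw [SylIn.coe_toSylow] at t
  have m := hm.subgroupOf
  refine ⟨π.range, inferInstance, inferInstance, W, inferInstance, inferInstance, inferInstance,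
    π.rangeRestrict, hπ, ⟨fun w => ?_, fun g hg => Subtype.ext (au_faith W g hg),
      map_top_of_surjective _ hπ ▸ t.map _, minOver_map_surj m _ hπ k1,
      pCoreOf_top_eq_bot_of_minOver t m _ hπ k1 (subgroupOf_pCoreOf H ▸ k2), fun g hg => ?_⟩, k1,
    le_antisymm ?_ (le_inf (subgroupOf_mono H (pCoreOf_le_sylIn hT)) k2), fun A hA => ?_⟩
  · obtain ⟨x, hx, rfl⟩ := s₀.surj w
    rw [← s₀.pow hx, hW.2 x (u1 hx), s₀.one]
  · obtain ⟨g, rfl⟩ := hπ g
    refine mem_map_of_mem _ (by_contra fun e => nc' ?_)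
    have f := fx T hT.le hT.pgroup
    have c : ⁅H, U ⊓ relCent (T : Set G) Z⁆ ≤ Z := by
      rw [← hm.eq_of_not_le (X := T ⊔ zpowers (g : G)) le_sup_left
        (sup_le hT.le (zpowers_le.2 g.2)) fun e' => e (e' (mem_sup_right (mem_zpowers _)))]
      exact (le_relCent.1 (sup_le (le_relCent.2 ⟨hT.le.trans nZ, (commutator_comm _ _).le.trans
        (le_relCent.1 inf_le_right).2⟩) (zpowers_le.2 ⟨nZ g.2, fun u hu =>
          (s.smul_eq_iff g hu.1).1 (hg _ ((mf T hT.le u hu.1).2 hu.2))⟩))).2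
    rw [commutator_comm] at c
    rw [ch _ f inf_le_left (norm_of_commutator_le (c.trans f.le))] at c
    exact (commutator_mono le_rfl (pRes_le H)).trans c
  · rw [subgroupOf_pCoreOf]
    exact MinOver_inf_le_pCore t m k1 norm_of_normal
  · have e : s₀.pre (fixA W ((A.subgroupOf H).map π.rangeRestrict)) =
        relCent (A : Set G) Z ⊓ U := Subgroup.ext fun u =>
      ⟨fun hu => ⟨(mf A hA u hu.1).1 hu.2, hu.1⟩, fun hu => ⟨hu.2, (mf A hA u hu.2).2 hu.1⟩⟩
    have c1 := s₀.card_pre (fixA W ((A.subgroupOf H).map π.rangeRestrict))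
    have c2 := s₀.card
    have c3 := ((relCent (A : Set G) Z).subgroupOf U).card_mul_index
    rw [← inf_subgroupOf_right, H21.card_subgroupOf_of_le inf_le_right, inf_subgroupOf_right, ← e,
      c1, c2] at c3
    have c4 : (relCent (A : Set G) Z).relIndex U ≤ (relCent (A : Set G) W₂).relIndex W₁ := by
      refine le_trans ?_ (relIndex_le_of_le_right u1 FiniteIndex.index_ne_zero)
      rw [← inf_relIndex_right (relCent (A : Set G) W₂)]
      exact relIndex_le_of_le_left (le_relCent.2 ⟨inf_le_right.trans UZ,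
        (le_relCent.1 inf_le_left).2.trans z1⟩) FiniteIndex.index_ne_zero
    refine le_trans (le_of_eq (Nat.eq_of_mul_eq_mul_right (Nat.card_pos (α := Z)) ?_))
      (Nat.mul_le_mul_right _ c4)
    rw [← c3, relIndex]
    ring

end Cfsg.Agent.QRC
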