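/-
Elements of odd prime order acting on `F₂`-modules (project QT0, part XF).
-/
import Cfsg.Agent.H72.Cop
import Cfsg.Agent.H72.FFD

set_option autoImplicit false
set_option linter.unusedSectionVars false

namespace Cfsg.Agent.QRC.Xf

open Cfsg Subgroup Cfsg.Agent.H70 Cfsg.Agent.H92 Cfsg.Agent.H72
open Cfsg.Agent.H69 (fixA dl)

variable {Γ : Type*} [Group Γ] [Finite Γ] {V : Type*} [AddCommGroup V] [Finite V]
  [DistribMulAction Γ V]

theorem two_pow (hV : ∀ v : V, 2 • v = 0) {n : ℕ} (hn : n ∣ Nat.card V) : ∃ k, n = 2 ^ k := by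
  have : IsPGroup 2 (Multiplicative V) := fun v => ⟨1, hV v.toAdd⟩
  obtain ⟨m, hm⟩ := this.exists_card_eq
  rw [show Nat.card V = 2 ^ m from hm, Nat.dvd_prime_pow Nat.prime_two] at hn
  exact hn.imp fun _ h => h.2

theorem card_two_pow (hV : ∀ v : V, 2 • v = 0) (U : AddSubgroup V) : ∃ k, Nat.card U = 2 ^ k :=
  two_pow hV U.card_addSubgroup_dvd_card

theorem rel_two_pow (hV : ∀ v : V, 2 • v = 0) (H U : AddSubgroup V) : ∃ k, H.relIndex U = 2 ^ k :=
  two_pow hV ((AddSubgroup.relIndex_dvd_card H U).trans U.card_addSubgroup_dvd_card)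

theorem ker_dl (y : Γ) : (dl y : V →+ V).ker = fixA V (zpowers y) :=
  AddSubgroup.ext fun _ => dl_eq_zero_iff.trans mem_fix_zpowers.symm

theorem rel_eq (y : Γ) (U : AddSubgroup V) :
    (fixA V (zpowers y)).relIndex U = Nat.card (U.map (dl y)) := by
  rw [← ker_dl, AddSubgroup.relIndex_ker]

theorem nofix {p : ℕ} (hp : Odd p) (hV : ∀ v : V, 2 • v = 0) {y : Γ} (hy : y ^ p = 1) {v : V}
    (h : y • dl y v = dl y v) : dl y v = 0 := by
  have e := pow_smul_eq h p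
  obtain ⟨k, rfl⟩ := hp
  rwa [hy, one_smul, left_eq_add, add_nsmul, mul_nsmul, hV, nsmul_zero, zero_add, one_nsmul] at e

theorem card_mod {p : ℕ} (hp : p.Prime) {y : Γ} (hy : y ^ p = 1) {W : AddSubgroup V}
    (hW : ∀ w ∈ W, y • w ∈ W) (h : ∀ w ∈ W, y • w = w → w = 0) : Nat.card W ≡ 1 [MOD p] := by
  haveI := Fact.mk hp
  let σ : Function.End W := fun c => ⟨y • c.1, hW _ c.2⟩
  have hσ : ∀ (n : ℕ) (c : W), ((σ ^ n) c : V) = y ^ n • (c : V) := fun n => by
    induction n with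
    | zero => intro c; rw [pow_zero, pow_zero, one_smul]; rfl
    | succ n ih =>
      intro c
      rw [pow_succ', pow_succ', mul_smul, ← ih]
      rfl
  classical
  have := Fintype.ofFinite W
  have h1 := Equiv.Perm.card_fixedPoints_modEq (f := σ) (p := p) (n := 1) (by
    rw [pow_one]
    exact funext fun c => Subtype.ext (by rw [hσ, hy, one_smul]; rfl))
  rw [← Nat.card_eq_fintype_card] at h1
  refine h1.trans ?_
  rw [Fintype.card_eq_one_iff.2]
  exact ⟨⟨0, Subtype.ext (smul_zero y)⟩,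
    fun c => Subtype.ext (Subtype.ext (h _ c.1.2 (congrArg Subtype.val c.2)))⟩

theorem rel_mod {p : ℕ} (hp : p.Prime) (ho : Odd p) (hV : ∀ v : V, 2 • v = 0) {y : Γ}
    (hy : y ^ p = 1) {U : AddSubgroup V} (hU : ∀ w ∈ U, y • w ∈ U) :
    (fixA V (zpowers y)).relIndex U ≡ 1 [MOD p] := by
  rw [rel_eq]
  refine card_mod hp hy ?_ ?_
  · rintro _ ⟨v, hv, rfl⟩
    exact ⟨_, hU v hv, dl_smul_comm rfl v⟩
  · rintro _ ⟨v, -, rfl⟩ e
    exact nofix ho hV hy e

end Cfsg.Agent.QRC.Xf
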