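/-
A 2F-offender acting faithfully on a group of odd prime exponent (project QT0, part XF).
-/
import Cfsg.Agent.H72.Cop
import Cfsg.Agent.H72.FFD
import Cfsg.Agent.H46.Generation
import Cfsg.Agent.QT0.Xf0

set_option autoImplicit false
set_option linter.unusedSectionVars false

namespace Cfsg.Agent.QRC

open Cfsg Subgroup Cfsg.Agent.H70 Cfsg.Agent.H92 Cfsg.Agent.H72
open Cfsg.Agent.H69 (fixA dl)
open scoped commutatorElement

variable {Γ : Type*} [Group Γ] [Finite Γ] {V : Type*} [AddCommGroup V] [Finite V]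
  [DistribMulAction Γ V] {P A : Subgroup Γ}

namespace Xf

theorem rel_le_sq {p : ℕ} (ho : Odd p) {y b : Γ} (hy : y ^ p = 1) (b2 : b * b = 1)
    (inv : b * y * b⁻¹ = y⁻¹) {U : AddSubgroup V} (hU : ∀ w ∈ U, y • w ∈ U) :
    (fixA V (zpowers y)).relIndex U ≤ (fixA V (zpowers b)).relIndex U ^ 2 := by
  have h1 : fixA V (zpowers b) ⊓ fixA V (zpowers (y * b * y⁻¹)) ≤ fixA V (zpowers y) := fun v hv => by
    have e : y * b * y⁻¹ * b = y * y := by
      calc _ = y * (b * y * b⁻¹)⁻¹ * (b * b) := by group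
        _ = _ := by rw [inv, b2, inv_inv, mul_one]
    have e2 : (y * y) • v = v := by
      rw [← e, mul_smul, mem_fix_zpowers.1 hv.1, mem_fix_zpowers.1 hv.2]
    obtain ⟨k, rfl⟩ := ho
    have e3 : (y * y) ^ (k + 1) = y := by
      rw [← sq, ← pow_mul, show 2 * (k + 1) = 2 * k + 1 + 1 by ring, pow_succ, hy, one_mul]
    rw [mem_fix_zpowers, ← e3]
    exact mem_fix_zpowers.2 e2 _ (pow_mem (mem_zpowers _) _)
  have h2 : (fixA V (zpowers (y * b * y⁻¹))).relIndex U = (fixA V (zpowers b)).relIndex U := by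
    have inj : Function.Injective (DistribSMul.toAddMonoidHom V y) := fun a b e => smul_left_cancel y e
    have e1 : U.map (DistribSMul.toAddMonoidHom V y) = U := AddSubgroup.eq_of_le_of_card_ge
      (by rintro _ ⟨v, hv, rfl⟩; exact hU v hv) (AddSubgroup.card_map_of_injective inj).ge
    nth_rewrite 1 [← e1]
    rw [← AddSubgroup.relIndex_comap]
    congr 1
    ext v
    rw [AddSubgroup.mem_comap, mem_fix_zpowers, mem_fix_zpowers]
    change (y * b * y⁻¹) • y • v = y • v ↔ _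
    rw [mul_smul, inv_smul_smul, mul_smul, smul_left_cancel_iff]
  refine (AddSubgroup.relIndex_le_of_le_left h1 AddSubgroup.index_ne_zero_of_finite).trans
    (AddSubgroup.relIndex_inf_le.trans ?_)
  rw [h2, sq]

/-- the `A × B` lemma -/
theorem axb {p : ℕ} (ho : Odd p) (hV : ∀ v : V, 2 • v = 0) (hf : Faith Γ V) {B : Subgroup Γ}
    (hB : IsPGroup 2 B) {y : Γ} (hy : y ^ p = 1) (hc : ∀ s ∈ B, s * y = y * s)
    (h : fixA V B ≤ fixA V (zpowers y)) : y = 1 := by
  refine hf y fun v => mem_fix_zpowers.1 (by_contra fun hv => ?_)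
  obtain ⟨w, -, w1, w2⟩ := exists_fixed_mod hV hB (Z := fixA V (zpowers y)) (Y := ⊤)
    (fun s hs z hz => by
      rw [mem_fix_zpowers] at hz ⊢
      rw [← mul_smul, ← hc s hs, mul_smul, hz]) (fun _ _ _ _ => trivial) fun e => hv (e trivial)
  refine w1 (mem_fix_zpowers.2 (dl_eq_zero_iff.1 (nofix ho hV hy (mem_fix_zpowers.1 (h fun s hs => ?_)))))
  rw [← dl_smul_comm (hc s hs), H69.smul_eq_add_dl s w, map_add,
    dl_eq_zero_iff.2 (mem_fix_zpowers.1 (w2 s hs)), add_zero]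

theorem not_eight {p : ℕ} (ho : Odd p) (hV : ∀ v : V, 2 • v = 0) {y b : Γ} (hy : y ^ p = 1)
    (b2 : b * b = 1) (inv : b * y * b⁻¹ = y⁻¹) : (fixA V (zpowers y)).index ≠ 8 := fun h8 => by
  rw [← ker_dl, AddSubgroup.index_ker] at h8
  set W := (dl y : V →+ V).range
  have hy' : ∀ w ∈ W, y • w ∈ W := by
    rintro _ ⟨v, rfl⟩
    exact ⟨_, dl_smul_comm rfl v⟩
  have hb : ∀ w ∈ W, b • w ∈ W := by
    rintro _ ⟨v, rfl⟩
    rw [smul_dl, inv, dl_inv, ← dl_smul_comm (show y⁻¹ * y = y * y⁻¹ by simp)]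
    exact neg_mem ⟨_, rfl⟩
  have h1 := rel_le_sq ho hy b2 inv hy'
  have h0 : fixA V (zpowers y) ⊓ W = ⊥ := eq_bot_iff.2 (by
    rintro _ ⟨h, v, rfl⟩
    exact nofix ho hV hy (mem_fix_zpowers.1 h))
  rw [← AddSubgroup.inf_relIndex_right, h0, AddSubgroup.relIndex_bot_left, h8] at h1
  have h2 : (fixA V (zpowers b)).relIndex W ≤ Nat.card (fixA V (zpowers b) ⊓ W : AddSubgroup V) := by
    rw [rel_eq]
    refine AddSubgroup.card_le_of_le ?_
    rintro _ ⟨w, hw, rfl⟩
    refine ⟨mem_fix_zpowers.2 ?_, dl_mem_of_smul_mem (hb w hw) hw⟩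
    rw [H69.dl_apply, smul_sub, ← mul_smul, b2, one_smul, ← neg_sub, neg_eq_iff_add_eq_zero, ← two_nsmul, hV]
  have h3 := AddSubgroup.relIndex_mul_relIndex ⊥ (fixA V (zpowers b) ⊓ W) W bot_le inf_le_right
  rw [AddSubgroup.relIndex_bot_left, AddSubgroup.relIndex_bot_left, AddSubgroup.inf_relIndex_right, h8] at h3
  have h4 : 3 ≤ (fixA V (zpowers b)).relIndex W := by nlinarith
  nlinarith

end Xf

open Xf

theorem exists_small {p : ℕ} (hp : p.Prime) (h2 : p ≠ 2) (h3 : p ≠ 3) (hV : ∀ v : V, 2 • v = 0)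
    (hf : Faith Γ V) (hP : ∀ y ∈ P, y ^ p = 1) (hA : IsElementaryAbelian 2 A) (h0 : A ≠ ⊥)
    (hn : A ≤ normalizer (P : Set Γ)) (hc : A ⊓ centralizer (P : Set Γ) = ⊥)
    (hi : (fixA V A).index ≤ Nat.card A ^ 2) :
    p = 5 ∧ ∃ x ∈ P, x ≠ 1 ∧ (fixA V (zpowers x)).index ≤ 16 := by
  have ho := hp.odd_of_ne_two h2
  have p5 : 5 ≤ p := hp.five_le_of_ne_two_of_ne_three h2 h3
  have hodd : ¬ 2 ∣ Nat.card P := fun h => by
    obtain ⟨y, hy⟩ := exists_prime_orderOf_dvd_card' 2 h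
    have := orderOf_dvd_of_pow_eq_one (show y ^ p = 1 from Subtype.ext (hP y y.2))
    rw [hy] at this
    exact h2 ((Nat.prime_dvd_prime_iff_eq Nat.prime_two hp).1 this).symm
  induction hcard : Nat.card A using Nat.strong_induction_on generalizing A with | _ n ih => ?_
  have cA : ∀ a ∈ A, ∀ b ∈ A, a * b = b * a := fun a ha b hb =>
    congrArg Subtype.val (hA.1.is_comm.comm ⟨a, ha⟩ ⟨b, hb⟩)
  obtain ⟨B, hB, i2, hne⟩ : ∃ B ≤ A, B.relIndex A = 2 ∧
      ¬ P ⊓ centralizer (B : Set Γ) ≤ centralizer (A : Set Γ) := by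
    by_contra hno
    push Not at hno
    exact h0 (hc ▸ (inf_eq_left.2 (le_centralizer_iff.1
      (H46.le_of_forall_hyperplane hA h0 hodd hn hno))).symm)
  obtain ⟨y0, ⟨y0P, y0B⟩, hy0⟩ := SetLike.not_le_iff_exists.1 hne
  obtain ⟨b, hb, nb⟩ : ∃ b ∈ A, b * y0 ≠ y0 * b := by
    by_contra hno
    push Not at hno
    exact hy0 hno
  have bB : b ∉ B := fun h => nb (y0B b h)
  have b2 : b * b = 1 := by rw [← sq]; exact hA.2 b hb
  set y := y0⁻¹ * (b * y0 * b⁻¹) with yd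
  have yP : y ∈ P := mul_mem (inv_mem y0P) ((mem_normalizer_iff.1 (hn hb) y0).1 y0P)
  have y1 : y ≠ 1 := fun e => nb (by
    rw [yd, inv_mul_eq_one, eq_mul_inv_iff_mul_eq] at e; exact e.symm)
  have inv : b * y * b⁻¹ = y⁻¹ := by
    calc _ = b * y0⁻¹ * b⁻¹ * (b * b) * y0 * (b * b)⁻¹ := by rw [yd]; group
      _ = _ := by rw [b2, yd]; group
  have cy : ∀ s ∈ B, s * y = y * s := fun s hs =>
    (show Commute s y0 from y0B s hs).inv_right.mul_right
      (((show Commute s b from cA s (hB hs) b hb).mul_right (y0B s hs)).mul_right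
        (show Commute s b from cA s (hB hs) b hb).inv_right)
  have hBe : IsElementaryAbelian 2 B :=
    ⟨⟨⟨fun a c => Subtype.ext (cA a (hB a.2) c (hB c.2))⟩⟩, fun a ha => hA.2 a (hB ha)⟩
  have hU : ∀ w ∈ fixA V B, y • w ∈ fixA V B := fun w hw s hs => by
    rw [← mul_smul, cy s hs, mul_smul, hw s hs]
  have e1 : fixA V A = fixA V (zpowers b) ⊓ fixA V B := by
    refine le_antisymm (fun v hv => ⟨mem_fix_zpowers.2 (hv b hb), fun s hs => hv s (hB hs)⟩)
      fun v hv a ha => ?_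
    by_cases aB : a ∈ B
    · exact hv.2 a aB
    have : a * b ∈ B := (mul_mem_iff_of_index_two (H := B.subgroupOf A) i2 (a := ⟨a, ha⟩)
      (b := ⟨b, hb⟩)).2 (iff_of_false aB bB)
    have := hv.2 _ this
    rwa [mul_smul, mem_fix_zpowers.1 hv.1] at this
  have e2 := AddSubgroup.relIndex_mul_index (H := fixA V (zpowers b) ⊓ fixA V B) inf_le_right
  rw [AddSubgroup.inf_relIndex_right, ← e1] at e2
  have e3 := relIndex_mul_relIndex ⊥ B A bot_le hB
  rw [relIndex_bot_left, relIndex_bot_left, i2] at e3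
  have n1 := rel_le_sq ho (hP y yP) b2 inv hU
  have n2 := rel_mod hp ho hV (hP y yP) hU
  obtain ⟨k, hk⟩ := rel_two_pow hV (fixA V (zpowers y)) (fixA V B)
  obtain ⟨l, hl⟩ := rel_two_pow hV (fixA V (zpowers b)) (fixA V B)
  have k0 : k ≠ 0 := by
    rintro rfl
    exact y1 (axb ho hV hf (H46.isPGroup_of_isElementaryAbelian hBe) (hP y yP) cy
      (AddSubgroup.relIndex_eq_one.1 hk))
  rw [hk] at n1 n2
  have n3 : p ∣ 2 ^ k - 1 := (Nat.modEq_iff_dvd' Nat.one_le_two_pow).1 n2.symm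
  have n4 := Nat.le_of_dvd (Nat.sub_pos_of_lt (Nat.one_lt_two_pow k0)) n3
  have l2 : 4 ≤ (fixA V (zpowers b)).relIndex (fixA V B) := by
    rw [hl] at n1 ⊢
    rcases l with _ | _ | l
    · omega
    · omega
    · rw [pow_add, pow_add]
      have := Nat.one_le_two_pow (n := l)
      omega
  have ipos : 0 < (fixA V B).index := Nat.pos_of_ne_zero AddSubgroup.index_ne_zero_of_finite
  by_cases B0 : B = ⊥
  · subst B0
    rw [card_bot] at e3
    rw [← e3, ← e2] at hi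
    rw [fix_bot, AddSubgroup.relIndex_top_right] at hk
    have n5 : 2 ^ k ≤ 16 := by nlinarith
    have k4 : k ≤ 4 := (Nat.pow_le_pow_iff_right (a := 2) (by norm_num)).1 n5
    refine ⟨?_, y, yP, y1, hk ▸ n5⟩
    have k3 : k ≠ 3 := by
      rintro rfl
      exact not_eight ho hV (hP y yP) b2 inv hk
    interval_cases k
    · omega
    · omega
    · omega
    · omega
    · rcases (Nat.Prime.dvd_mul hp (m := 3) (n := 5)).1 n3 with h | h
      · exact absurd ((Nat.prime_dvd_prime_iff_eq hp Nat.prime_three).1 h) h3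
      · exact (Nat.prime_dvd_prime_iff_eq hp Nat.prime_five).1 h
  · have := Nat.card_pos (α := B)
    refine ih (Nat.card B) (by omega) hBe B0 (hB.trans hn)
      (eq_bot_iff.2 (hc ▸ inf_le_inf_right _ hB)) ?_ rfl
    rw [← e3, ← e2] at hi
    nlinarith

end Cfsg.Agent.QRC
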