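/-
Small elements of order five (project QT0, part XF).
-/
import Cfsg.Agent.H72.Cop
import Cfsg.Agent.H72.FFD
import Cfsg.Agent.QT0.Xf0
import Cfsg.Agent.H42.SylIn

set_option autoImplicit false
set_option linter.unusedSectionVars false

namespace Cfsg.Agent.QRC

open Cfsg Subgroup Cfsg.Agent.H70 Cfsg.Agent.H92 Cfsg.Agent.H72
open Cfsg.Agent.H69 (fixA dl)
open scoped commutatorElement

variable {Γ : Type*} [Group Γ] [Finite Γ] {V : Type*} [AddCommGroup V] [Finite V]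
  [DistribMulAction Γ V] {P A : Subgroup Γ}

namespace Xf

/-- small elements -/
structure Sm (V : Type*) [AddCommGroup V] [DistribMulAction Γ V] (x : Γ) : Prop where
  pow : x ^ 5 = 1
  ne : x ≠ 1
  le : Nat.card (dl x : V →+ V).range ≤ 16

variable (V) in
/-- the pointwise stabiliser of `[V, x]` -/
def Kx (x : Γ) : Subgroup Γ where
  carrier := {g | ∀ w ∈ (dl x : V →+ V).range, g • w = w}
  one_mem' := fun w _ => one_smul _ w
  mul_mem' := fun hg hk w hw => by rw [mul_smul, hk w hw, hg w hw]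
  inv_mem' := fun hg w hw => inv_smul_eq_iff.2 (hg w hw).symm

theorem W_inv {x y : Γ} (h : x * y = y * x) {w : V} (hw : w ∈ (dl x : V →+ V).range) :
    y • w ∈ (dl x : V →+ V).range := by
  obtain ⟨v, rfl⟩ := hw
  exact ⟨_, dl_smul_comm h.symm v⟩

theorem Sm.conj {x : Γ} (h : Sm V x) (g : Γ) : Sm V (g * x * g⁻¹) := by
  refine ⟨by rw [conj_pow, h.pow]; group, by simpa using h.ne, le_trans ?_ h.le⟩
  refine Nat.card_le_card_of_surjective (fun w => ⟨g • w.1, ?_⟩) ?_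
  · obtain ⟨v, hv⟩ := w.2
    exact ⟨g • v, by rw [← hv, smul_dl]⟩
  · rintro ⟨_, v, rfl⟩
    exact ⟨⟨_, g⁻¹ • v, rfl⟩, Subtype.ext (by simp only [smul_dl, smul_inv_smul])⟩

theorem mem_zp {a b : Γ} (ha : a ^ 5 = 1) (hb : b ∈ zpowers a) (b1 : b ≠ 1) : a ∈ zpowers b := by
  haveI : Fact (Nat.Prime 5) := ⟨Nat.prime_five⟩
  have a1 : a ≠ 1 := by rintro rfl; exact b1 (by simpa using hb)
  have b5 : b ^ 5 = 1 := by
    obtain ⟨k, rfl⟩ := hb
    rw [← zpow_natCast, ← zpow_mul, mul_comm, zpow_mul, zpow_natCast, ha, one_zpow]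
  rw [eq_of_le_of_card_ge (zpowers_le.2 hb) (by
    rw [Nat.card_zpowers, Nat.card_zpowers, orderOf_eq_prime ha a1, orderOf_eq_prime b5 b1])]
  exact mem_zpowers a

theorem cyc {a g : Γ} {r : ℕ} (hr : Odd r) (ha : a ^ 5 = 1) (h : g * a * g⁻¹ ∈ zpowers a)
    (hg : g ^ r * a = a * g ^ r) : g * a = a * g := by
  haveI : Fact (Nat.Prime 5) := ⟨Nat.prime_five⟩
  by_cases a1 : a = 1
  · simp [a1]
  have o := orderOf_eq_prime ha a1
  obtain ⟨k, hk⟩ := (mem_powers_iff_mem_zpowers.2 h : g * a * g⁻¹ ∈ Submonoid.powers a)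
  have e : ∀ n : ℕ, g ^ n * a * (g ^ n)⁻¹ = a ^ k ^ n := fun n => by
    induction n with
    | zero => simp
    | succ n ih =>
      rw [pow_succ' k, pow_mul, show a ^ k = g * a * g⁻¹ from hk, conj_pow, ← ih, pow_succ']; group
  have e1 : k ^ r ≡ 1 [MOD 5] := by
    rw [← o, ← pow_eq_pow_iff_modEq, ← e, hg, mul_inv_cancel_right, pow_one]
  have e2 : (k : ZMod 5) ^ r = 1 := by
    have := (ZMod.natCast_eq_natCast_iff _ _ _).2 e1
    simpa using this
  have e3 : (k : ZMod 5) = 1 := by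
    have k0 : (k : ZMod 5) ≠ 0 := fun f => by
      rw [f, zero_pow hr.pos.ne'] at e2
      exact zero_ne_one e2
    have := pow_gcd_eq_one.2 ⟨e2, ZMod.pow_card_sub_one_eq_one k0⟩
    rwa [show r.gcd (5 - 1) = 1 from (Nat.coprime_two_right.2 hr).pow_right 2, pow_one] at this
  have e4 : a ^ k = a ^ 1 := by
    rw [pow_eq_pow_iff_modEq, o, ← ZMod.natCast_eq_natCast_iff, e3, Nat.cast_one]
  rw [← mul_inv_eq_iff_eq_mul, ← show a ^ k = g * a * g⁻¹ from hk, e4, pow_one]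

variable (hV : ∀ v : V, 2 • v = 0) (hf : Faith Γ V)
include hV

theorem Sm.zero {x : Γ} (h : Sm V x) {w : V} (hw : w ∈ (dl x : V →+ V).range) (e : x • w = w) :
    w = 0 := by
  obtain ⟨v, rfl⟩ := hw
  exact nofix (by decide) hV h.pow e

theorem Sm.irr {x : Γ} (h : Sm V x) {U : AddSubgroup V} (hU : U ≤ (dl x : V →+ V).range)
    (hx : ∀ w ∈ U, x • w ∈ U) (h0 : U ≠ ⊥) : U = (dl x : V →+ V).range := by
  refine AddSubgroup.eq_of_le_of_card_ge hU (h.le.trans ?_)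
  have h1 := card_mod Nat.prime_five h.pow hx fun w hw => h.zero hV (hU hw)
  obtain ⟨k, hk⟩ := card_two_pow hV U
  have h2 := (AddSubgroup.card_le_of_le hU).trans h.le
  have h3 : Nat.card U ≠ 1 := fun e => h0 (AddSubgroup.card_eq_one.1 e)
  rw [hk] at h1 h2 h3 ⊢
  have k4 : k ≤ 4 := (Nat.pow_le_pow_iff_right (a := 2) (by norm_num)).1 h2
  interval_cases k <;> simp_all [Nat.ModEq]

include hf

omit hV in
theorem Sm.ne_bot {x : Γ} (h : Sm V x) : (dl x : V →+ V).range ≠ ⊥ := fun e =>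
  h.ne (hf x fun v => dl_eq_zero_iff.1 (AddSubgroup.mem_bot.1 (e ▸ ⟨v, rfl⟩)))

theorem Sm.not_mem {x : Γ} (h : Sm V x) : x ∉ Kx V x := fun e =>
  h.ne_bot hf (eq_bot_iff.2 fun w hw => h.zero hV hw (e w hw))

theorem Sm.exists_pow {x y : Γ} (h : Sm V x) {H : Subgroup Γ} (hH : IsPGroup 5 H) (hx : x ∈ H)
    (hc : ∀ g ∈ H, x * g = g * x) (hy : y ∈ H) : ∃ k ∈ zpowers x, k⁻¹ * y ∈ Kx V x := by
  haveI : Fact (Nat.Prime 5) := ⟨Nat.prime_five⟩
  obtain ⟨⟨w, hw⟩, w0⟩ := AddSubgroup.ne_bot_iff_exists_ne_zero.1 (h.ne_bot hf)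
  have w0' : w ≠ 0 := fun e => w0 (Subtype.ext e)
  obtain ⟨n, hn⟩ := hH.card_orbit w
  obtain ⟨m, hm⟩ := (hH.to_le (zpowers_le.2 hx)).card_orbit w
  have s1 : MulAction.orbit (zpowers x) w ⊆ MulAction.orbit H w := by
    rintro _ ⟨g, rfl⟩
    exact ⟨⟨g, zpowers_le.2 hx g.2⟩, rfl⟩
  have s2 : MulAction.orbit H w ⊆ (dl x : V →+ V).range := by
    rintro _ ⟨g, rfl⟩
    exact W_inv (hc g g.2) hw
  have a1 : Nat.card (MulAction.orbit H w) ≤ 16 := (Nat.card_mono (Set.toFinite _) s2).trans h.le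
  have m0 : m ≠ 0 := by
    rintro rfl
    have := (Nat.card_eq_one_iff_unique.1 hm).1
    exact w0' (h.zero hV hw (congrArg Subtype.val (Subsingleton.elim
      (⟨_, ⟨x, mem_zpowers x⟩, rfl⟩ : MulAction.orbit (zpowers x) w) ⟨w, MulAction.mem_orbit_self w⟩)))
  have n1 : n ≤ 1 := by
    by_contra hlt
    have := Nat.pow_le_pow_right (n := 5) (by norm_num) (show 2 ≤ n by omega)
    omega
  have e := Set.eq_of_subset_of_ncard_le s1 (by
    rw [← Nat.card_coe_set_eq, ← Nat.card_coe_set_eq, hn, hm]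
    exact Nat.pow_le_pow_right (by norm_num) (by omega))
  obtain ⟨⟨k, hk⟩, ek⟩ := e.ge (⟨⟨y, hy⟩, rfl⟩ : y • w ∈ MulAction.orbit H w)
  have c := hc _ (mul_mem (inv_mem (zpowers_le.2 hx hk)) hy)
  have := h.irr hV (U := (dl x : V →+ V).range ⊓ fixA V (zpowers (k⁻¹ * y))) inf_le_left
    (fun v hv => ⟨W_inv rfl hv.1, mem_fix_zpowers.2 (by
      rw [← mul_smul, ← c, mul_smul, mem_fix_zpowers.1 hv.2])⟩) fun f => w0' (AddSubgroup.mem_bot.1
        (f ▸ ⟨hw, mem_fix_zpowers.2 (by rw [mul_smul, inv_smul_eq_iff]; exact ek.symm)⟩))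
  exact ⟨k, hk, fun v hv => mem_fix_zpowers.1 (this.ge hv).2⟩

theorem Sm.mem_K (hP : ∀ y ∈ P, y ^ 5 = 1) {x y : Γ} (h : Sm V x) (h' : Sm V y) (hx : x ∈ P)
    (hy : y ∈ P) (c : x * y = y * x) (n : y ∉ zpowers x) : y ∈ Kx V x := by
  by_contra hn
  have e1 := h.irr hV (U := (dl x : V →+ V).range.map (dl y)) (by
      rintro _ ⟨v, hv, rfl⟩
      exact dl_mem_of_smul_mem (W_inv c hv) hv) (by
      rintro _ ⟨v, hv, rfl⟩
      exact ⟨_, W_inv rfl hv, dl_smul_comm c v⟩)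
    fun f => hn fun v hv => dl_eq_zero_iff.1 (AddSubgroup.mem_bot.1 (f ▸ ⟨v, hv, rfl⟩))
  have e2 := h'.irr hV (U := (dl x : V →+ V).range) (by
    rw [← e1]; rintro _ ⟨v, -, rfl⟩; exact ⟨v, rfl⟩) (fun v hv => W_inv c hv) (h.ne_bot hf)
  obtain ⟨k, hk, hK⟩ := h.exists_pow hV hf (H := P ⊓ centralizer {x}) (y := y)
    (fun g => ⟨1, Subtype.ext (hP g g.2.1)⟩) ⟨hx, mem_centralizer_singleton_iff.2 rfl⟩
    (fun g hg => (mem_centralizer_singleton_iff.1 hg.2).symm) ⟨hy, mem_centralizer_singleton_iff.2 c.symm⟩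
  have m : k⁻¹ * y ∈ relK V (dl x : V →+ V).range :=
    mul_mem (inv_mem (zpowers_le.2 (show x ∈ relK V (dl x : V →+ V).range from fun v => ⟨v, rfl⟩) hk))
      fun v => e2 ▸ ⟨v, rfl⟩
  have := hf (k⁻¹ * y) fun v => dl_eq_zero_iff.1 (nofix (p := 5) (by decide) hV
    (hP _ (mul_mem (inv_mem (zpowers_le.2 hx hk)) hy)) (hK _ (m v)))
  exact n (inv_mul_eq_one.1 this ▸ hk)

end Xf

open Xf

theorem cent_of_small (hV : ∀ v : V, 2 • v = 0) (hf : Faith Γ V) (hP : ∀ y ∈ P, y ^ 5 = 1)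
    (hc : ⁅P, P⁆ ≤ centralizer (P : Set Γ)) (hi : (⁅P, P⁆ : Subgroup Γ).relIndex P ≤ 25)
    {x : Γ} (hx : x ∈ P) (x1 : x ≠ 1) (hs : (fixA V (zpowers x)).index ≤ 16)
    {r : ℕ} (hr : r.Prime) (r2 : r ≠ 2) (r5 : r ≠ 5) {g : Γ} (hg : g ∈ normalizer (P : Set Γ))
    (hgr : g ^ r ∈ centralizer (P : Set Γ)) : g ∈ centralizer (P : Set Γ) := by
  haveI : Fact (Nat.Prime 5) := ⟨Nat.prime_five⟩
  have ho := hr.odd_of_ne_two r2
  have h : Sm V x := ⟨hP x hx, x1, by rwa [← ker_dl, AddSubgroup.index_ker] at hs⟩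
  have h5 : IsPGroup 5 P := fun y => ⟨1, Subtype.ext (hP y y.2)⟩
  have nK := h.not_mem hV hf
  have cP : ∀ {y a : Γ}, y ∈ P → a ∈ P → y * a * y⁻¹ ∈ P := fun hy ha =>
    mul_mem (mul_mem hy ha) (inv_mem hy)
  -- `x` is central
  have cx : ∀ y ∈ P, x * y = y * x := fun y hy => by
    by_contra hne
    have hz := hc (commutator_mem_commutator hy hx)
    set z := ⁅y, x⁆ with zd
    have zP : z ∈ P := mul_mem (cP hy hx) (inv_mem hx)
    have e1 : y * x * y⁻¹ = z * x := by rw [zd, commutatorElement_def]; group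
    have e2 : y * (y * x * y⁻¹) * y⁻¹ = z * z * x := by
      rw [e1, ← conj_mul, e1, hz y hy]; group
    have zx : Commute x z := hz x hx
    have nz : z ∉ zpowers x := fun m => hne ?_
    · have m1 := h.mem_K hV hf hP (h.conj y) hx (cP hy hx)
        (e1 ▸ (zx.mul_right (Commute.refl x)).eq) fun m => nz (by
          rw [e1] at m; simpa using mul_mem m (inv_mem (mem_zpowers x)))
      have m2 := h.mem_K hV hf hP ((h.conj y).conj y) hx (cP hy (cP hy hx))
        (e2 ▸ ((zx.mul_right zx).mul_right (Commute.refl x)).eq) fun m => nz (by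
          rw [e2] at m
          have m' : z * z ∈ zpowers x := by simpa using mul_mem m (inv_mem (mem_zpowers x))
          have := pow_mem m' 3
          rwa [← sq, ← pow_mul, show 2 * 3 = 5 + 1 from rfl, pow_succ, hP z zP, one_mul] at this)
      rw [e2] at m2
      rw [e1] at m1
      have := mul_mem (mul_mem m1 (inv_mem m2)) m1
      exact nK (by convert this using 1; group)
    · obtain ⟨k, hk⟩ := mem_zp h.pow m fun e => hne (commutatorElement_eq_one_iff_mul_comm.1 e).symm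
      rw [← hk]
      exact ((show Commute y z from hz y hy).zpow_right k).symm.eq
  have xD : x ∉ ⁅P, P⁆ := fun m => nK (commutator_le.2 (fun a ha b hb w hw => ?_) m)
  swap
  · obtain ⟨k, hk, hK⟩ := h.exists_pow hV hf h5 hx cx hb
    have hb' : ∀ v ∈ (dl x : V →+ V).range, b • v = k • v := fun v hv => by
      rw [← inv_smul_eq_iff, ← mul_smul, hK v hv]
    have ck : a * k = k * a := by
      obtain ⟨n, rfl⟩ := hk
      exact ((show Commute x a from cx a ha).symm.zpow_right n).eq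
    have w1 := W_inv (cx _ (inv_mem ha)) (W_inv (cx _ (inv_mem hb)) hw)
    rw [commutatorElement_def, mul_smul, mul_smul, mul_smul, hb' _ w1, ← mul_smul, ck, mul_smul,
      smul_inv_smul, ← hb' _ (W_inv (cx _ (inv_mem hb)) hw), smul_inv_smul]
  have five : ∀ {N M : Subgroup Γ}, M ≤ P → ¬ M ≤ N → 5 ≤ N.relIndex M := fun {N M} hM n => by
    obtain ⟨k, hk⟩ := (h5.to_le hM).index (N.subgroupOf M)
    have k0 : k ≠ 0 := by rintro rfl; exact n (relIndex_eq_one.1 hk)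
    exact (Nat.le_self_pow k0 5).trans hk.ge
  have chain : ∀ {N M : Subgroup Γ}, ⁅P, P⁆ ≤ N → N ≤ M → M ≤ P → ¬ N ≤ ⁅P, P⁆ → ¬ M ≤ N → P ≤ M :=
    fun {N M} h1 h2 h3 n1 n2 => by
      by_contra n3
      have a1 := five (h2.trans h3) n1
      have a2 := five h3 n2
      have a3 := five le_rfl n3
      rw [← relIndex_mul_relIndex _ _ _ (h1.trans h2) h3, ← relIndex_mul_relIndex _ _ _ h1 h2] at hi
      have := Nat.mul_le_mul (Nat.mul_le_mul a1 a2) a3
      omega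
  have ab : ∀ a ∈ P, ∀ b ∈ P, a * b = b * a := fun a ha b hb => by
    by_contra hne
    refine hne (mem_centralizer_singleton_iff.1 (chain (N := P ⊓ centralizer (P : Set Γ))
      (M := P ⊓ centralizer {a}) (le_inf (commutator_le.2 fun a ha b hb => mul_mem (cP ha hb) (inv_mem hb)) hc)
      (fun y hy => ⟨hy.1, mem_centralizer_singleton_iff.2 (hy.2 a ha).symm⟩) inf_le_left
      (fun f => xD (f ⟨hx, fun y hy => (cx y hy).symm⟩))
      (fun f => hne ((f ⟨ha, mem_centralizer_singleton_iff.2 rfl⟩).2 b hb).symm) hb).2).symm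
  have D0 : ⁅P, P⁆ = ⊥ := eq_bot_iff.2 (commutator_le.2 fun a ha b hb =>
    commutatorElement_eq_one_iff_mul_comm.2 (ab a ha b hb))
  have gen : ∀ {a b : Γ} {M : Subgroup Γ}, a ∈ P → b ∈ P → a ≠ 1 → b ∉ zpowers a → a ∈ M → b ∈ M →
      P ≤ M := fun {a b M} ha hb a1 n aM bM =>
    (chain (N := zpowers a) (M := P ⊓ M) (D0 ▸ bot_le) (zpowers_le.2 ⟨ha, aM⟩) inf_le_left
      (fun f => a1 (mem_bot.1 (D0 ▸ f (mem_zpowers a)))) fun f => n (f ⟨hb, bM⟩)).trans inf_le_right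
  have gP : ∀ {a : Γ}, a ∈ P → g * a * g⁻¹ ∈ P := fun ha => (mem_normalizer_iff.1 hg _).1 ha
  have nz : ∀ {k : Γ}, k * x * k⁻¹ ∈ zpowers x → k ∈ normalizer (zpowers x : Set Γ) := fun m =>
    H42.mem_normalizer_of_conj_mem (by
      rintro _ ⟨n, rfl⟩
      rw [← conj_zpow]; exact zpow_mem m n)
  have gx : g * x = x * g := by
    refine cyc ho h.pow (by_contra fun n => ?_) (hgr x hx).symm
    have n2 : g * (g * x * g⁻¹) * g⁻¹ ∉ zpowers x := fun m => n (by
      have m1 := nz (k := g * g) (by convert m using 1; group)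
      have m2 := nz (k := g ^ r) (by rw [← hgr x hx, mul_inv_cancel_right]; exact mem_zpowers x)
      obtain ⟨k, rfl⟩ := ho
      have m3 := mul_mem (inv_mem (pow_mem m1 k)) m2
      rw [← sq, ← pow_mul, pow_succ, inv_mul_cancel_left] at m3
      exact (mem_normalizer_iff.1 m3 x).1 (mem_zpowers x))
    refine nK (gen (gP hx) (gP (gP hx)) (h.conj g).ne (fun m => n ?_)
      (h.mem_K hV hf hP (h.conj g) hx (gP hx) (cx _ (gP hx)) n)
      (h.mem_K hV hf hP ((h.conj g).conj g) hx (gP (gP hx)) (cx _ (gP (gP hx))) n2) hx)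
    obtain ⟨k, hk⟩ := m
    refine ⟨k, ?_⟩
    simp only [conj_zpow] at hk
    simpa using hk
  intro y hy
  by_cases yx : y ∈ zpowers x
  · obtain ⟨n, rfl⟩ := yx
    exact ((show Commute g x from gx).zpow_right n).symm.eq
  set c := g * y * g⁻¹ * y⁻¹ with cd
  have hcP : c ∈ P := mul_mem (gP hy) (inv_mem hy)
  let M : Subgroup Γ :=
    { carrier := {a | a ∈ P ∧ g * a * g⁻¹ * a⁻¹ ∈ zpowers c}
      one_mem' := ⟨one_mem _, by simp⟩
      mul_mem' := fun {a b} ha hb => ⟨mul_mem ha.1 hb.1, by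
        have := mul_mem ha.2 hb.2
        rw [mul_assoc _ a⁻¹, ab _ (inv_mem ha.1) _ (mul_mem (gP hb.1) (inv_mem hb.1))] at this
        convert this using 1; group⟩
      inv_mem' := fun {a} ha => ⟨inv_mem ha.1, by
        have := inv_mem ha.2
        rw [mul_inv_rev, inv_inv, ab _ ha.1 _ (inv_mem (gP ha.1))] at this
        convert this using 1; group⟩ }
  have m := (gen (M := M) hx hy x1 yx ⟨hx, by rw [gx]; simp⟩ ⟨hy, mem_zpowers c⟩ hcP).2
  have gc : Commute g c := cyc ho (hP c hcP) (by simpa using mul_mem m (mem_zpowers c))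
    (hgr c hcP).symm
  have e : ∀ n : ℕ, g ^ n * y * (g ^ n)⁻¹ = c ^ n * y := fun n => by
    induction n with
    | zero => simp
    | succ n ih =>
      calc _ = g * (g ^ n * y * (g ^ n)⁻¹) * g⁻¹ := by rw [pow_succ']; group
        _ = _ := by rw [ih, ← mul_assoc, (gc.pow_right n).eq, pow_succ, cd]; group
  have e1 := e r
  rw [← hgr y hy, mul_inv_cancel_right, right_eq_mul] at e1
  have e2 := pow_gcd_eq_one.2 ⟨e1, hP c hcP⟩
  rw [show r.gcd 5 = 1 from (Nat.coprime_primes hr Nat.prime_five).2 r5, pow_one, cd, mul_inv_eq_one,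
    mul_inv_eq_iff_eq_mul] at e2
  exact e2.symm

end Cfsg.Agent.QRC
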